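import Mathlib

/-!
Two products of commuting involutions that agree leave a relation after the common factors are removed.
-/

set_option autoImplicit false

namespace CfsgLib.KnownB.TypeCentral

variable {G : Type*} [Group G]

theorem list_prod_sq {l : List G} (hc : ∀ a ∈ l, ∀ b ∈ l, Commute a b) (hs : ∀ a ∈ l, a * a = 1) :
    l.prod * l.prod = 1 := by
  induction l with
  | nil => simp
  | cons a t ih =>
    have h1 : Commute t.prod a :=
      (Commute.list_prod_right _ _ fun z hz => hc a (by simp) z (by simp [hz])).symm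
    rw [List.prod_cons]
    calc a * t.prod * (a * t.prod) = a * (t.prod * a) * t.prod := by simp only [mul_assoc]
      _ = a * a * (t.prod * t.prod) := by rw [h1.eq]; simp only [mul_assoc]
      _ = 1 := by
        rw [hs a (by simp), ih (fun x hx y hy => hc x (by simp [hx]) y (by simp [hy]))
          fun x hx => hs x (by simp [hx]), one_mul]

/-- The members in just one of the lists multiply to one. -/
theorem exists_relation {l l' : List G} (hnd : l.Nodup) (hnd' : l'.Nodup)
    (hc : ∀ a ∈ l ++ l', ∀ b ∈ l ++ l', Commute a b) (hs : ∀ a ∈ l ++ l', a * a = 1) (he : l.prod = l'.prod) :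
    ∃ L : List G, L.Nodup ∧ L.length ≤ l.length + l'.length ∧ (∀ z ∈ L, z ∈ l ++ l') ∧ L.prod = 1 ∧
      (L = [] → ∀ z, z ∈ l ↔ z ∈ l') := by
  classical
  obtain ⟨A, hA⟩ : ∃ A, A = l.filter fun a => decide (a ∉ l') := ⟨_, rfl⟩
  obtain ⟨B, hB⟩ : ∃ B, B = l'.filter fun a => decide (a ∉ l) := ⟨_, rfl⟩
  obtain ⟨K, hK⟩ : ∃ K, K = l.filter fun a => !decide (a ∉ l') := ⟨_, rfl⟩
  obtain ⟨K', hK'⟩ : ∃ K', K' = l'.filter fun a => !decide (a ∉ l) := ⟨_, rfl⟩
  have hKK : K.Perm K' := by
    refine (List.perm_ext_iff_of_nodup (hK ▸ hnd.filter _) (hK' ▸ hnd'.filter _)).2 fun z => ?_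
    simp [hK, hK', List.mem_filter, and_comm]
  have hp1 : (A ++ K).Perm l := by rw [hA, hK]; exact List.filter_append_perm _ _
  have hp2 : (B ++ K').Perm l' := by rw [hB, hK']; exact List.filter_append_perm _ _
  have hl : ∀ {z}, z ∈ l → z ∈ l ++ l' := fun hz => List.mem_append_left _ hz
  have hl' : ∀ {z}, z ∈ l' → z ∈ l ++ l' := fun hz => List.mem_append_right _ hz
  have e1 := hp1.prod_eq' (List.pairwise_of_forall_mem_list fun a ha b hb =>
    hc a (hl (hp1.subset ha)) b (hl (hp1.subset hb)))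
  have e2 := hp2.prod_eq' (List.pairwise_of_forall_mem_list fun a ha b hb =>
    hc a (hl' (hp2.subset ha)) b (hl' (hp2.subset hb)))
  have e3 := hKK.prod_eq' (List.pairwise_of_forall_mem_list fun a ha b hb =>
    hc a (hl (hp1.subset (List.mem_append_right _ ha))) b (hl (hp1.subset (List.mem_append_right _ hb))))
  rw [List.prod_append] at e1 e2
  have hAB : A.prod = B.prod := by
    have h1 : A.prod * K.prod = B.prod * K.prod := by rw [e1, e3, e2, he]
    exact mul_right_cancel h1
  have hmA : ∀ z ∈ A, z ∈ l ++ l' := fun z hz => hl (by rw [hA] at hz; exact List.mem_of_mem_filter hz)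
  have hmB : ∀ z ∈ B, z ∈ l ++ l' := fun z hz => hl' (by rw [hB] at hz; exact List.mem_of_mem_filter hz)
  refine ⟨A ++ B, List.nodup_append.2 ⟨hA ▸ hnd.filter _, hB ▸ hnd'.filter _, ?_⟩, ?_, ?_, ?_, fun h0 z => ?_⟩
  · intro a ha b hb e0
    subst e0
    simp [hA, hB, List.mem_filter] at ha hb
    exact hb.2 ha.1
  · rw [List.length_append, hA, hB]
    exact Nat.add_le_add (List.length_filter_le _ _) (List.length_filter_le _ _)
  · exact fun z hz => (List.mem_append.1 hz).elim (hmA z) (hmB z)
  · rw [List.prod_append, hAB]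
    exact list_prod_sq (fun a ha b hb => hc a (hmB a ha) b (hmB b hb)) fun a ha => hs a (hmB a ha)
  · obtain ⟨hA0, hB0⟩ := List.append_eq_nil_iff.1 h0
    rw [hA, List.filter_eq_nil_iff] at hA0
    rw [hB, List.filter_eq_nil_iff] at hB0
    simp only [decide_eq_true_eq, not_not] at hA0 hB0
    exact ⟨hA0 z, hB0 z⟩

end CfsgLib.KnownB.TypeCentral
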