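import Cfsg.Agent.Lib.KnownB.TypeM22.Invol
import Cfsg.Agent.Lib.Spor.FischerTypes.M22
import Cfsg.Agent.Lib.Spor.FischerTypes.Transport

/-!
The setting of type M(22) passes along isomorphisms: a group isomorphic to Fi22 has its hypothesis.
-/

set_option autoImplicit false

noncomputable section

namespace CfsgLib.KnownB.TypeCentral

open Cfsg CfsgLib.ThreeTransp CfsgLib.KnownB.TypeM22

universe u v

variable {G : Type u} [Group G] [Finite G] {X : Type v} [Group X] [Finite X]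

theorem setting_congr (e : G ≃* X) {D : Set G} (S : TypeM22.Setting D) (ht : IsOfTypeM22 G D) :
    TypeM22.Setting (e '' D) := by
  obtain ⟨⟨⟨h1, h2⟩, hc, hg, htr, a, ha, b, hb, hab⟩, ⟨p1, ⟨a', ha', b', hb', hab'⟩, p3⟩, -⟩ := S
  have htr' : ∀ x ∈ e '' D, ∀ y ∈ e '' D, ∃ g : X, g * x * g⁻¹ = y := by
    rintro _ ⟨x, hx, rfl⟩ _ ⟨y, hy, rfl⟩
    obtain ⟨g, rfl⟩ := htr x hx y hy
    exact ⟨e g, by simp⟩
  refine ⟨⟨⟨?_, ?_⟩, ?_, ?_, htr', e a, ⟨a, ha, rfl⟩, e b, ⟨b, hb, rfl⟩, e.injective.ne hab⟩,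
    ⟨htr', ⟨e a', ⟨a', ha', rfl⟩, e b', ⟨b', hb', rfl⟩, e.injective.ne hab'⟩, fun B hB hblk => ?_⟩,
    hasPointsType_of_typeM22 (CfsgLib.Spor.FischerTypes.typeM22_congr e _ ht)⟩
  · rintro _ ⟨x, hx, rfl⟩
    rw [MulEquiv.orderOf_eq, h1 x hx]
  · rintro _ ⟨x, hx, rfl⟩ _ ⟨y, hy, rfl⟩
    rcases h2 x hx y hy with r | r <;> [left; right] <;> rw [← map_mul, ← map_pow, r, map_one]
  · rintro g _ ⟨x, hx, rfl⟩
    exact ⟨e.symm g * x * (e.symm g)⁻¹, hc _ x hx, by simp⟩
  · have h0 := congrArg (Subgroup.map e.toMonoidHom) hg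
    rwa [MonoidHom.map_closure, Subgroup.map_top_of_surjective _ e.surjective] at h0
  · obtain ⟨B', hB'⟩ : ∃ B', B' = e ⁻¹' B := ⟨_, rfl⟩
    have himg : e '' B' = B := by rw [hB', Set.image_preimage_eq _ e.surjective]
    have hblk' : ∀ g : G, (fun x => g * x * g⁻¹) '' B' = B' ∨ Disjoint ((fun x => g * x * g⁻¹) '' B') B' := fun g => by
      have hconj : (fun x => e g * x * (e g)⁻¹) '' B = e '' ((fun x => g * x * g⁻¹) '' B') := by
        rw [← himg, Set.image_image, Set.image_image]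
        exact Set.image_congr fun x _ => by simp
      rcases hblk (e g) with r | r
      · left
        rw [hconj, ← himg] at r
        exact e.injective.image_injective r
      · right
        rw [hconj, ← himg] at r
        exact (Set.disjoint_image_iff e.injective).1 r
    rcases p3 B' (fun x hx => by
      obtain ⟨y, hy, he⟩ := hB (show e x ∈ B by rw [hB'] at hx; exact hx)
      exact e.injective he ▸ hy) hblk' with r | r
    · left
      rw [← himg]
      exact r.image _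
    · right
      rw [← himg, r]

/-- The hypothesis on an involution, from the isomorphism with Fi22. -/
theorem invol_of_iso (h : Cfsg.Spor.IsoFi22 X) : ∃ d' : X, orderOf d' = 2 ∧
    Cfsg.IsQuasisimple ↥(Subgroup.centralizer ({d'} : Set X)) ∧ (∃ (K : Type) (_ : Field K) (_ : Fintype K),
      Fintype.card K = 4 ∧ ∃ _ : ((Subgroup.zpowers d').subgroupOf (Subgroup.centralizer ({d'} : Set X))).Normal,
        Nonempty (↥(Subgroup.centralizer ({d'} : Set X)) ⧸ (Subgroup.zpowers d').subgroupOf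
          (Subgroup.centralizer ({d'} : Set X)) ≃* Cfsg.PSU 6 K 2)) ∧
      ∃ g, g * d' * g⁻¹ ∈ Subgroup.centralizer ({d'} : Set X) ∧ g * d' * g⁻¹ ≠ d' := by
  obtain ⟨e⟩ := h
  haveI : Finite Cfsg.Spor.Fi22 := CfsgLib.Spor.Fi22.finite
  obtain ⟨hgrp, ⟨a, ha, hcl⟩, hgen⟩ := CfsgLib.Spor.Fi22.Transp.isThreeTranspositionClass
  obtain ⟨ht, hp⟩ := CfsgLib.Spor.FischerTypes.typeM22
  have hD : IsThreeTranspositionGroup (conjugatesOf CfsgLib.Spor.Fi22.Transp.ga) :=
    ⟨hgrp, fun g x hx => (show IsConj _ x from hx).trans (isConj_iff.2 ⟨g, rfl⟩), hgen⟩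
  have S := setting_congr e.symm (TypeM22.setting_of hD hp ht) ht
  obtain ⟨F, _, _, σ, hF, hf, hP⟩ := S.exists_pmap
  obtain ⟨d, hd, hq, ⟨hn, K, iK, iT, hK, hi⟩, hw⟩ := S.exists_invol hP
  exact ⟨d, hd, hq, ⟨K, iK, iT, hK, hn, hi⟩, hw⟩

end CfsgLib.KnownB.TypeCentral
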