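import Cfsg.Agent.Lib.ThreeTransp.Neighbours

/-!
A class of involutions in which the members commuting with one member form a strongly regular graph of
three-transpositions: in a component of the commuting graph two members commute or have a common partner.
-/

set_option autoImplicit false

namespace CfsgLib.KnownB.TypeCentral

open Cfsg CfsgLib.ThreeTransp

universe u

variable {G : Type u} [Group G] [Finite G]

/-- What is known around one member. -/
structure LocalAt (D : Set G) (e : G) (v k l m : ℕ) : Prop where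
  three : ∀ x ∈ nb D e, ∀ y ∈ nb D e, ¬ Commute x y → x * y * x = y * x * y
  c1 : (nb D e).ncard = v
  c2 : ∀ p ∈ nb D e, (nb D e ∩ nb D p).ncard = k
  c3 : ∀ p ∈ nb D e, ∀ q ∈ nb D e ∩ nb D p, (nb D e ∩ (nb D p ∩ nb D q)).ncard = l
  c4 : ∀ p ∈ nb D e, ∀ q ∈ nb D e, ¬ Commute p q → (nb D e ∩ (nb D p ∩ nb D q)).ncard = m
  move : ∀ x ∈ nb D e, ∀ y ∈ nb D e, ∃ g : G, g * e * g⁻¹ = e ∧ g * x * g⁻¹ = y

/-- The conditions on the four numbers. -/
structure Params (v k l m : ℕ) : Prop where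
  lk : l + 1 < k
  kv : 2 * k + 2 < v
  ineq : ∀ N : ℕ, 1 ≤ N → 2 * N + 1 ≤ v →
    ((v : ℤ) - 2 * N - 1) * ((N : ℤ) * m + k + (m : ℤ) * l - m - 2 * m * m) < ((k : ℤ) - m) ^ 2 * N

omit [Finite G] in
theorem nb_conj_mem {D : Set G} (hD : ∀ g : G, ∀ x ∈ D, g * x * g⁻¹ ∈ D) (g : G) {x y : G} :
    g * y * g⁻¹ ∈ nb D (g * x * g⁻¹) ↔ y ∈ nb D x := by
  refine ⟨fun ⟨h1, h2, h3⟩ => ⟨?_, fun e => h2 (by rw [e]), (commute_conj_iff g).1 h3⟩,
    fun ⟨h1, h2, h3⟩ => ⟨hD g y h1, fun e => h2 (mul_left_cancel (mul_right_cancel e)), (commute_conj_iff g).2 h3⟩⟩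
  simpa [mul_assoc] using hD g⁻¹ _ h1

omit [Finite G] in
theorem nb_image {D : Set G} (hD : ∀ g : G, ∀ x ∈ D, g * x * g⁻¹ ∈ D) (g x : G) :
    nb D (g * x * g⁻¹) = (fun y => g * y * g⁻¹) '' nb D x := by
  ext y
  refine ⟨fun hy => ⟨g⁻¹ * y * g, ?_, by group⟩, ?_⟩
  · rw [← nb_conj_mem hD g, show g * (g⁻¹ * y * g) * g⁻¹ = y by group]
    exact hy
  · rintro ⟨z, hz, rfl⟩; exact (nb_conj_mem hD g).2 hz

omit [Finite G] in
/-- The data move along conjugation. -/
theorem LocalAt.conj {D : Set G} {e : G} {v k l m : ℕ} (L : LocalAt D e v k l m)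
    (hD : ∀ g : G, ∀ x ∈ D, g * x * g⁻¹ ∈ D) (g : G) : LocalAt D (g * e * g⁻¹) v k l m := by
  obtain ⟨f, hf⟩ : ∃ f : G → G, f = fun y => g * y * g⁻¹ := ⟨_, rfl⟩
  have hfi : Function.Injective f := by
    subst hf; exact fun a b h => mul_left_cancel (mul_right_cancel h)
  have hnb : ∀ x, nb D (f x) = f '' nb D x := fun x => by subst hf; exact nb_image hD g x
  have hcm : ∀ {x y}, Commute (f x) (f y) ↔ Commute x y := fun {x y} => by subst hf; exact commute_conj_iff g
  have hmul : ∀ x y, f (x * y) = f x * f y := fun x y => by subst hf; group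
  rw [show g * e * g⁻¹ = f e by subst hf; rfl]
  refine ⟨?_, ?_, ?_, ?_, ?_, ?_⟩ <;> simp only [hnb, Set.forall_mem_image]
  · intro x hx y hy hn
    rw [← hmul, ← hmul, ← hmul, ← hmul, L.three x hx y hy fun h => hn (hcm.2 h)]
  · rw [Set.ncard_image_of_injective _ hfi, L.c1]
  · intro p hp
    rw [← Set.image_inter hfi, Set.ncard_image_of_injective _ hfi, L.c2 p hp]
  · intro p hp q hq
    rw [← Set.image_inter hfi] at hq
    obtain ⟨q', hq', rfl⟩ := hq
    rw [hnb, ← Set.image_inter hfi, ← Set.image_inter hfi, Set.ncard_image_of_injective _ hfi, L.c3 p hp q' hq']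
  · intro p hp q hq hn
    rw [← Set.image_inter hfi, ← Set.image_inter hfi, Set.ncard_image_of_injective _ hfi,
      L.c4 p hp q hq fun h => hn (hcm.2 h)]
  · intro x hx y hy
    obtain ⟨n, h1, h2⟩ := L.move x hx y hy
    refine ⟨f n, ?_, ?_⟩
    · subst hf; simp only; rw [show g * n * g⁻¹ * (g * e * g⁻¹) * (g * n * g⁻¹)⁻¹ = g * (n * e * n⁻¹) * g⁻¹ by group, h1]
    · subst hf; simp only; rw [show g * n * g⁻¹ * (g * x * g⁻¹) * (g * n * g⁻¹)⁻¹ = g * (n * x * n⁻¹) * g⁻¹ by group, h2]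

/-- The standing hypotheses. -/
structure Graph (D : Set G) (v k l m : ℕ) : Prop where
  conj : ∀ g : G, ∀ x ∈ D, g * x * g⁻¹ ∈ D
  sq : ∀ x ∈ D, x * x = 1
  one : (1 : G) ∉ D
  trans : ∀ a ∈ D, ∀ b ∈ D, ∃ g : G, g * a * g⁻¹ = b
  loc : ∀ e ∈ D, LocalAt D e v k l m
  par : Params v k l m

omit [Finite G] in
theorem graph_of_local {d : G} {v k l m : ℕ} (hd : d * d = 1) (hd1 : d ≠ 1)
    (L : LocalAt (conjugatesOf d) d v k l m) (P : Params v k l m) : Graph (conjugatesOf d) v k l m := by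
  have hc : ∀ g : G, ∀ x ∈ conjugatesOf d, g * x * g⁻¹ ∈ conjugatesOf d := fun g x hx =>
    (show IsConj d x from hx).trans (isConj_iff.2 ⟨g, rfl⟩)
  refine ⟨hc, fun x hx => ?_, fun h1 => ?_, fun a ha b hb => isConj_iff.1 ((show IsConj d a from ha).symm.trans (show IsConj d b from hb)), fun e he => ?_, P⟩
  · obtain ⟨g, rfl⟩ := isConj_iff.1 (show IsConj d x from hx)
    rw [show g * d * g⁻¹ * (g * d * g⁻¹) = g * (d * d) * g⁻¹ by group, hd]; group
  · exact hd1 (isConj_one_left.1 (show IsConj d 1 from h1))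
  · obtain ⟨g, rfl⟩ := isConj_iff.1 (show IsConj d e from he)
    exact L.conj hc g

variable {D : Set G} {v k l m : ℕ}

omit [Finite G] in
theorem nb_swap {a b : G} (ha : a ∈ D) (hb : b ∈ nb D a) : a ∈ nb D b := ⟨ha, hb.2.1.symm, hb.2.2.symm⟩

/-- The component relation of the commuting graph. -/
def Reach (D : Set G) : G → G → Prop := Relation.ReflTransGen fun a b => a ∈ D ∧ b ∈ nb D a

omit [Finite G] in
theorem Reach.symm {a b : G} (h : Reach D a b) : Reach D b a := by
  induction h with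
  | refl => exact Relation.ReflTransGen.refl
  | tail _ hs ih => exact Relation.ReflTransGen.head ⟨hs.2.1, nb_swap hs.1 hs.2⟩ ih

omit [Finite G] in
theorem Reach.trans {a b c : G} (h : Reach D a b) (h' : Reach D b c) : Reach D a c := Relation.ReflTransGen.trans h h'

omit [Finite G] in
theorem Reach.mem {a b : G} (h : Reach D a b) (ha : a ∈ D) : b ∈ D := by
  induction h with
  | refl => exact ha
  | tail _ hs _ => exact hs.2.1

omit [Finite G] in
theorem reach_nb {a b : G} (ha : a ∈ D) (hb : b ∈ nb D a) : Reach D a b := Relation.ReflTransGen.single ⟨ha, hb⟩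

omit [Finite G] in
theorem reach_commute {a b : G} (ha : a ∈ D) (hb : b ∈ D) (hc : Commute a b) : Reach D a b := by
  rcases eq_or_ne b a with rfl | hne
  · exact Relation.ReflTransGen.refl
  · exact reach_nb ha ⟨hb, hne, hc⟩

omit [Finite G] in
theorem Graph.reach_conj (Γ : Graph D v k l m) (g : G) {a b : G} (h : Reach D a b) :
    Reach D (g * a * g⁻¹) (g * b * g⁻¹) := by
  induction h with
  | refl => exact Relation.ReflTransGen.refl
  | tail _ hs ih => exact ih.tail ⟨Γ.conj g _ hs.1, (nb_conj_mem Γ.conj g).2 hs.2⟩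

theorem nb_finset (S : Set G) : ∃ V : Finset G, ∀ y, y ∈ V ↔ y ∈ S :=
  ⟨(Set.toFinite S).toFinset, fun _ => Set.Finite.mem_toFinset _⟩

open scoped _root_.Classical in
/-- The counting step. -/
theorem Graph.close_step (Γ : Graph D v k l m) {a z w u : G} (ha : a ∈ D) (hz : z ∈ nb D a) (hw : w ∈ nb D z)
    (hu : u ∈ nb D w) (hzu : ¬ Commute z u) (hau : ¬ Commute a u) : ∃ c, c ∈ nb D a ∧ u ∈ nb D c := by
  by_contra hno
  push Not at hno
  have haz := nb_swap ha hz
  have hL := Γ.loc z hz.1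
  have hwu : w ∈ nb D u := nb_swap hw.1 hu
  obtain ⟨V, hV⟩ := nb_finset (nb D z)
  obtain ⟨W, hW⟩ := nb_finset (nb D z ∩ nb D u)
  have hN : 1 ≤ W.card := Finset.card_pos.2 ⟨w, (hW w).2 ⟨hw, hwu⟩⟩
  have hWV : W ⊆ V := fun q hq => (hV q).2 ((hW q).1 hq).1
  have hcard : ∀ (U : Finset G) (P : G → Prop) (S : Set G), (∀ y, y ∈ U ∧ P y ↔ y ∈ S) →
      (U.filter fun y => P y).card = S.ncard := fun U P S hh => by
    rw [← Set.ncard_coe_finset]
    exact congrArg Set.ncard (Set.ext fun y => by rw [Finset.mem_coe, Finset.mem_filter]; exact hh y)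
  have hVc : V.card = v := by
    rw [← hL.c1, ← Set.ncard_coe_finset]; exact congrArg Set.ncard (Set.ext hV)
  have hin : ∀ q ∈ W, (W.filter fun y => y ∈ nb D q).card = m := fun q hq => by
    obtain ⟨hqz, hqu⟩ := (hW q).1 hq
    rw [hcard W (fun y => y ∈ nb D q) (nb D q ∩ (nb D z ∩ nb D u)) fun y => by
      rw [hW]; exact ⟨fun h => ⟨h.2, h.1⟩, fun h => ⟨h.2, h.1⟩⟩]
    exact (Γ.loc q hqz.1).c4 z (nb_swap hz.1 hqz) u (nb_swap hu.1 hqu) hzu
  obtain ⟨f, hf⟩ : ∃ f : G → ℤ, ∀ p, f p = ∑ q ∈ W, if p ∈ nb D q then 1 else 0 := ⟨_, fun _ => rfl⟩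
  have hf' : ∀ p, f p = ((W.filter fun q => p ∈ nb D q).card : ℤ) := fun p => by rw [hf, Finset.sum_boole]
  have hfW : ∀ p ∈ W, f p = m := fun p hp => by
    rw [hf', ← hin p hp]
    congr 2
    exact Finset.filter_congr fun y hy =>
      ⟨fun h => nb_swap ((hW y).1 hy).1.1 h, fun h => nb_swap ((hW p).1 hp).1.1 h⟩
  have hsum : ∑ p ∈ V, f p = (W.card : ℤ) * k := by
    simp only [hf]
    rw [Finset.sum_comm, Finset.sum_congr rfl (g := fun _ => (k : ℤ)), Finset.sum_const, nsmul_eq_mul]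
    intro q hq
    rw [Finset.sum_boole, hcard V (fun y => y ∈ nb D q) (nb D z ∩ nb D q) fun y => by rw [hV]; rfl,
      hL.c2 q ((hW q).1 hq).1]
  have hsq : ∑ p ∈ V, f p * f p =
      (W.card : ℤ) * ((W.card : ℤ) * m + ((k : ℤ) - m) + (m : ℤ) * ((l : ℤ) - m)) := by
    simp only [hf, Finset.sum_mul_sum, ite_zero_mul_ite_zero, mul_one]
    rw [Finset.sum_comm, Finset.sum_congr rfl
      (g := fun _ => (W.card : ℤ) * m + ((k : ℤ) - m) + (m : ℤ) * ((l : ℤ) - m)), Finset.sum_const, nsmul_eq_mul]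
    intro q hq
    rw [Finset.sum_comm]
    have e : ∀ r ∈ W, (∑ p ∈ V, if p ∈ nb D q ∧ p ∈ nb D r then (1 : ℤ) else 0) =
        m + (if r = q then (k : ℤ) - m else 0) + if r ∈ nb D q then (l : ℤ) - m else 0 := by
      intro r hr
      rw [Finset.sum_boole, show (V.filter fun y => y ∈ nb D q ∧ y ∈ nb D r).card =
          (nb D z ∩ (nb D q ∩ nb D r)).ncard by
        rw [← Set.ncard_coe_finset]
        exact congrArg Set.ncard (Set.ext fun y => by rw [Finset.mem_coe, Finset.mem_filter, hV]; rfl)]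
      rcases eq_or_ne r q with rfl | hrq
      · rw [Set.inter_self, hL.c2 r ((hW r).1 hr).1, if_pos rfl, if_neg fun h => h.2.1 rfl]
        push_cast; ring
      rw [if_neg hrq]
      by_cases hrn : r ∈ nb D q
      · rw [if_pos hrn, hL.c3 q ((hW q).1 hq).1 r ⟨((hW r).1 hr).1, hrn⟩]
        push_cast; ring
      · rw [if_neg hrn, hL.c4 q ((hW q).1 hq).1 r ((hW r).1 hr).1
          fun h => hrn ⟨((hW r).1 hr).1.1, hrq, h⟩]
        push_cast; ring
    rw [Finset.sum_congr rfl e, Finset.sum_add_distrib, Finset.sum_add_distrib, Finset.sum_const,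
      Finset.sum_ite_eq', if_pos hq, ← Finset.sum_filter, Finset.sum_const, hin q hq, nsmul_eq_mul, nsmul_eq_mul]
  -- the members without a partner in the set
  have hanW : ∀ q ∈ W, q ≠ a ∧ ¬ Commute a q := fun q hq => by
    obtain ⟨-, hqu⟩ := (hW q).1 hq
    have h1 : q ≠ a := fun e => hau (e ▸ hqu.2.2.symm)
    exact ⟨h1, fun hc => hno q ⟨hqu.1, h1, hc⟩ (nb_swap hu.1 hqu)⟩
  have hbraid : ∀ q ∈ W, q * a * q = a * q * a := fun q hq =>
    hL.three q ((hW q).1 hq).1 a haz fun hc => (hanW q hq).2 hc.symm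
  obtain ⟨Z0, hZ0⟩ : ∃ Z0, Z0 = insert a (W.image fun q => q * a * q) := ⟨_, rfl⟩
  have hqi : ∀ q ∈ W, q⁻¹ = q := fun q hq => inv_eq_of_mul_eq_one_right (Γ.sq q ((hW q).1 hq).1.1)
  have hzero : ∀ p ∈ Z0, p ∈ V \ W ∧ f p = 0 := by
    intro p hp
    rw [hZ0, Finset.mem_insert] at hp
    rcases hp with rfl | hp
    · refine ⟨Finset.mem_sdiff.2 ⟨(hV _).2 haz, fun h => (hanW _ h).1 rfl⟩, ?_⟩
      rw [hf', Finset.filter_eq_empty_iff.2 fun q hq hqa => (hanW q hq).2 hqa.2.2.symm]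
      rfl
    · obtain ⟨q, hq, rfl⟩ := Finset.mem_image.1 hp
      obtain ⟨hqz, hqu⟩ := (hW q).1 hq
      have e0 : q * a * q = q * a * q⁻¹ := by rw [hqi q hq]
      rw [e0]
      have hzq : q * z * q⁻¹ = z := mul_inv_eq_iff_eq_mul.2 hqz.2.2.symm.eq
      have huq : q * u * q⁻¹ = u := mul_inv_eq_iff_eq_mul.2 hqu.2.2.symm.eq
      refine ⟨Finset.mem_sdiff.2 ⟨(hV _).2 (hzq ▸ (nb_conj_mem Γ.conj q).2 haz), fun h => ?_⟩, ?_⟩
      · have h1 := ((hW _).1 h).2.2.2
        rw [← huq] at h1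
        exact hau ((commute_conj_iff q).1 h1).symm
      · rw [hf', Finset.filter_eq_empty_iff.2 fun r hr hra => ?_]
        · rfl
        · obtain ⟨hrz, hru⟩ := (hW r).1 hr
          obtain ⟨r', hr'⟩ : ∃ r', r' = q⁻¹ * r * q := ⟨_, rfl⟩
          have hr0 : q * r' * q⁻¹ = r := by rw [hr']; group
          have hr'W : r' ∈ W := (hW r').2 ⟨by rw [← nb_conj_mem Γ.conj q, hr0, hzq]; exact hrz,
            by rw [← nb_conj_mem Γ.conj q, hr0, huq]; exact hru⟩
          have h1 := hra.2.2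
          rw [← hr0] at h1
          exact (hanW r' hr'W).2 ((commute_conj_iff q).1 h1).symm
  have hZc : Z0.card = W.card + 1 := by
    rw [hZ0, Finset.card_insert_of_notMem, Finset.card_image_of_injOn]
    · intro q hq r hr he
      have he' : q * a * q = r * a * r := he
      rw [hbraid q hq, hbraid r hr] at he'
      exact mul_left_cancel (mul_right_cancel he')
    · intro h
      obtain ⟨q, hq, he⟩ := Finset.mem_image.1 h
      refine (hanW q hq).2 ?_
      have h1 : q * a = a * q := by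
        conv_rhs => rw [← he]
        rw [mul_assoc (q * a), Γ.sq q ((hW q).1 hq).1.1, mul_one]
      exact h1.symm
  have hZU : Z0 ⊆ V \ W := fun p hp => (hzero p hp).1
  have hU1 : ∑ p ∈ (V \ W) \ Z0, f p = (W.card : ℤ) * ((k : ℤ) - m) := by
    rw [Finset.sum_sdiff_eq_sub hZU, Finset.sum_eq_zero fun p hp => (hzero p hp).2, sub_zero,
      Finset.sum_sdiff_eq_sub hWV, hsum, Finset.sum_congr rfl hfW, Finset.sum_const, nsmul_eq_mul]
    ring
  have hU2 : ∑ p ∈ (V \ W) \ Z0, f p ^ 2 =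
      (W.card : ℤ) * ((W.card : ℤ) * m + k + (m : ℤ) * l - m - 2 * m * m) := by
    simp only [pow_two]
    rw [Finset.sum_sdiff_eq_sub hZU, Finset.sum_eq_zero (s := Z0) (fun p hp => by rw [(hzero p hp).2, zero_mul]), sub_zero,
      Finset.sum_sdiff_eq_sub hWV, hsq, Finset.sum_congr rfl fun p hp => by rw [hfW p hp], Finset.sum_const,
      nsmul_eq_mul]
    ring
  have hUc : ((V \ W) \ Z0).card + (W.card + 1) + W.card = v := by
    rw [← hZc, Finset.card_sdiff_add_card_eq_card hZU, Finset.card_sdiff_add_card_eq_card hWV, hVc]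
  have hcs := sq_sum_le_card_mul_sum_sq (s := (V \ W) \ Z0) (f := f)
  rw [hU1, hU2, show (((V \ W) \ Z0).card : ℤ) = (v : ℤ) - 2 * W.card - 1 by omega] at hcs
  have hineq := Γ.par.ineq W.card hN (by omega)
  have hNpos : (0 : ℤ) < W.card := by exact_mod_cast hN
  have h5 := mul_lt_mul_of_pos_left hineq hNpos
  nlinarith [hcs, h5]

/-- Two members of a component commute or have a common partner. -/
theorem Graph.close (Γ : Graph D v k l m) {a b : G} (ha : a ∈ D) (h : Reach D a b) :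
    Commute a b ∨ ∃ c, c ∈ nb D a ∧ b ∈ nb D c := by
  induction h with
  | refl => exact Or.inl (Commute.refl a)
  | @tail w u _ hs ih =>
    obtain ⟨hw, hu⟩ := hs
    by_cases hau : Commute a u
    · exact Or.inl hau
    right
    rcases ih with hc | ⟨z, hz, hwz⟩
    · exact ⟨w, ⟨hw, fun e => hau (e ▸ hu.2.2), hc⟩, hu⟩
    by_cases hzu : Commute z u
    · exact ⟨z, hz, hu.1, fun e => hau (e ▸ hz.2.2), hzu⟩
    · exact Γ.close_step ha hz hwz hu hzu hau

/-- Members of a component that do not commute braid. -/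
theorem Graph.braid (Γ : Graph D v k l m) {a b : G} (ha : a ∈ D) (h : Reach D a b) (hn : ¬ Commute a b) :
    a * b * a = b * a * b := by
  obtain ⟨c, hc, hb⟩ := (Γ.close ha h).resolve_left hn
  exact (Γ.loc c hc.1).three a (nb_swap ha hc) b hb hn

/-- Commuting members moving a member alike are equal. -/
theorem Graph.eq_of_commute_mul (Γ : Graph D v k l m) {x a b : G} (hx : x ∈ D) (hxa : Reach D x a)
    (hxb : Reach D x b) (hna : ¬ Commute x a) (hnb : ¬ Commute x b) (h : Commute x (a * b)) : a = b := by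
  have h1 : x * (a * b) = a * b * x := h
  have h2 : a * x * a = b * x * b := by
    calc a * x * a = a * (x * (a * b)) * b := by
          rw [show a * (x * (a * b)) * b = a * x * a * (b * b) by group, Γ.sq b (hxb.mem hx), mul_one]
      _ = a * (a * b * x) * b := by rw [h1]
      _ = b * x * b := by rw [← mul_assoc, ← mul_assoc a a, Γ.sq a (hxa.mem hx), one_mul]
  rw [← Γ.braid hx hxa hna, ← Γ.braid hx hxb hnb] at h2
  exact mul_left_cancel (mul_right_cancel h2)

theorem Graph.exists_sep (Γ : Graph D v k l m) {a b p : G} (hb : b ∈ D) (ha : a ∈ nb D b) (hp : p ∈ nb D b)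
    (hpa : p ∈ nb D a) : ∃ y, y ∈ nb D b ∧ y ∈ nb D p ∧ ¬ Commute a y := by
  by_contra hno
  push Not at hno
  have hsub : nb D b ∩ nb D p ⊆ insert a (nb D b ∩ (nb D p ∩ nb D a)) := fun y hy =>
    (eq_or_ne y a).imp id fun hne => ⟨hy.1, hy.2, hy.1.1, hne, hno y hy.1 hy.2⟩
  have h1 := (Set.ncard_le_ncard hsub (Set.toFinite _)).trans (Set.ncard_insert_le _ _)
  rw [(Γ.loc b hb).c2 p hp, (Γ.loc b hb).c3 p hp a ⟨ha, nb_swap ha.1 hpa⟩] at h1
  have := Γ.par.lk
  omega

/-- A pair of commuting members has its product outside, and determines its members in the component. -/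
theorem Graph.pair_local (Γ : Graph D v k l m) {a b p q : G} (ha : a ∈ D) (hb : b ∈ nb D a) (hp : p ∈ D)
    (hq : q ∈ nb D p) (hap : Reach D a p) (he : a * b = p * q) : p = a ∧ q = b ∨ p = b ∧ q = a := by
  have hbr := reach_nb ha hb
  have hqr := reach_nb hp hq
  have key : ∀ {x}, Reach D a x → Commute x (a * b) → Commute x p ∧ Commute x q := by
    intro x hx hxc
    rw [he] at hxc
    by_cases h1 : Commute x p
    · refine ⟨h1, ?_⟩
      have h2 := (Commute.inv_right h1).mul_right hxc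
      rwa [inv_mul_cancel_left] at h2
    · exfalso
      refine hq.2.1 (Γ.eq_of_commute_mul (hx.mem ha) (hx.symm.trans hap) ((hx.symm.trans hap).trans hqr) h1
        (fun h2 => h1 ?_) hxc).symm
      have h3 := hxc.mul_right h2.inv_right
      rwa [mul_inv_cancel_right] at h3
  obtain ⟨ap, aq⟩ := key (Relation.ReflTransGen.refl) ((Commute.refl a).mul_right hb.2.2)
  obtain ⟨bp, bq⟩ := key hbr (hb.2.2.symm.mul_right (Commute.refl b))
  by_cases hpa : p = a
  · subst hpa; exact Or.inl ⟨rfl, (mul_left_cancel he).symm⟩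
  by_cases hpb : p = b
  · subst hpb
    rw [hb.2.2.eq] at he
    exact Or.inr ⟨rfl, (mul_left_cancel he).symm⟩
  exfalso
  obtain ⟨y, hy1, hy2, hy3⟩ := Γ.exists_sep hb.1 (nb_swap ha hb) (show p ∈ nb D b from ⟨hp, hpb, bp⟩)
    (show p ∈ nb D a from ⟨hp, hpa, ap⟩)
  have ha' : Reach D y a := (hbr.trans (reach_nb hb.1 hy1)).symm
  have haq : a * q = b * p := by
    have hqq : q = p * (a * b) := by rw [he, ← mul_assoc, Γ.sq p hp, one_mul]
    rw [hqq, ← mul_assoc, ap.eq, mul_assoc, ← mul_assoc a a b, Γ.sq a ha, one_mul, bp.eq]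
  have hc : Commute y (a * q) := haq ▸ hy1.2.2.symm.mul_right hy2.2.2.symm
  have hyq : ¬ Commute y q := fun h1 => hy3 (by
    have h2 := hc.mul_right h1.inv_right
    rw [mul_inv_cancel_right] at h2
    exact h2.symm)
  have haq' : a = q := Γ.eq_of_commute_mul hy1.1 ha' ((ha'.trans hap).trans hqr) (fun h1 => hy3 h1.symm) hyq hc
  subst haq'
  have h6 : b = p := by
    have := haq
    rw [Γ.sq a ha] at this
    rw [← mul_left_inj p, ← this, Γ.sq p hp]
  exact hpb h6.symm

/-- A product of two commuting members is no member. -/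
theorem Graph.not_two (Γ : Graph D v k l m) {a b : G} (ha : a ∈ D) (hb : b ∈ nb D a) : a * b ∉ D := by
  intro ht
  obtain ⟨y, hy, hyb⟩ : ∃ y, y ∈ nb D a ∧ ¬ Commute y b := by
    by_contra hno
    push Not at hno
    have hsub : nb D a ⊆ insert b (nb D a ∩ nb D b) := fun y hy =>
      (eq_or_ne y b).imp id fun hne => ⟨hy, hy.1, hne, (hno y hy).symm⟩
    have h1 := (Set.ncard_le_ncard hsub (Set.toFinite _)).trans (Set.ncard_insert_le _ _)
    rw [(Γ.loc a ha).c1, (Γ.loc a ha).c2 b hb] at h1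
    have := Γ.par.kv; omega
  have hyn : ¬ Commute y (a * b) := fun h1 => hyb (by
    have h2 := hy.2.2.symm.inv_right.mul_right h1
    rwa [inv_mul_cancel_left] at h2)
  have hct : Commute a (a * b) := (Commute.refl a).mul_right hb.2.2
  have e : b * (a * b) = a := by rw [hb.2.2.eq, ← mul_assoc, Γ.sq b hb.1, one_mul]
  have hry : Reach D y a := (reach_nb ha hy).symm
  have h3 := Γ.eq_of_commute_mul hy.1 (hry.trans (reach_nb ha hb)) (hry.trans (reach_commute ha ht hct)) hyb hyn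
    (e.symm ▸ hy.2.2.symm)
  exact Γ.one ((right_eq_mul.1 h3) ▸ ha)

/-- A product of three commuting members is no member. -/
theorem Graph.not_three (Γ : Graph D v k l m) {a b c : G} (ha : a ∈ D) (hb : b ∈ nb D a) (hc : c ∈ nb D a)
    (hbc : c ∈ nb D b) : a * b * c ∉ D := by
  intro hy
  have e : b * c = a * (a * b * c) := by rw [← mul_assoc, ← mul_assoc, Γ.sq a ha, one_mul]
  have hcy : Commute a (a * b * c) := ((Commute.refl a).mul_right hb.2.2).mul_right hc.2.2
  rcases eq_or_ne (a * b * c) a with r | r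
  · rw [r, Γ.sq a ha] at e
    exact hbc.2.1 ((eq_inv_of_mul_eq_one_right e).trans (inv_eq_of_mul_eq_one_right (Γ.sq b hb.1)))
  · rcases Γ.pair_local hb.1 hbc ha ⟨hy, r, hcy⟩ (reach_nb ha hb).symm e with ⟨h1, -⟩ | ⟨h1, -⟩
    · exact hb.2.1 h1.symm
    · exact hc.2.1 h1.symm

end CfsgLib.KnownB.TypeCentral
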