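import Cfsg.Agent.Lib.KnownB.TypeCentral.Points22
import Cfsg.Agent.Lib.KnownB.TypeCentral.Graph
import Cfsg.Agent.Lib.KnownB.TypeM22.Count
import Cfsg.Agent.Lib.Components.Basic

/-!
The graph around the involution: 693 members with parameters 180, 51 and 45.
-/

set_option autoImplicit false
set_option maxRecDepth 20000

noncomputable section

namespace CfsgLib.KnownB.TypeCentral

open Matrix CfsgLib.Classical CfsgLib.Classical.Unitary CfsgLib.Spor CfsgLib.MultSU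
  CfsgLib.KnownB.U62Thompson CfsgLib.KnownB.Fi22Double CfsgLib.ThreeTransp CfsgLib.ThreeTransp.USix
  CfsgLib.KnownB.TypeM22

universe w z

variable {F : Type} [Field F] {e : QField →+* F} {σ : F →+* F} [Finite F] {hF : Nat.card F = 2 ^ 2}
  {h : UFrob σ 2} {H : Type w} [Group H] [Finite H] {τ : H →* Cfsg.PSU 6 F 2} {δ : H} {c : ℕ} {E : ℕ → H}
  {X : Type z} [Group X] [Finite X] {ι : H →* X} {d : X}

theorem count_perp_line : ((Finset.range 4096).filter fun c =>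
    (!Nat.beq c 0 && isoN c && (Nat.beq (c / 64 % 4) 0 && Nat.beq (c / 256 % 4) 0)) = true).card = 159 := by
  decide +kernel

theorem params22 : Params 693 180 51 45 := by
  refine ⟨by norm_num, by norm_num, fun N hN hle => ?_⟩
  push_cast
  nlinarith [sq_nonneg ((N : ℤ) - 90), sq_nonneg ((N : ℤ) - 89), hN, hle]

omit [Finite H] [Finite X] in
theorem cv_line (e : QField ≃+* F) {r s : Fin 3 → V F} (H : Hyp σ r s) (h : UFrob σ 2) (c : ℕ) :
    uh σ (cv e r s c) (r 1) = 0 ↔ Nat.beq (c / 256 % 4) 0 = true := by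
  rw [nat_beq_iff, show uh σ (cv e r s c) (r 1) = e (qvec c 4) by
    simp [cv, lin, uh_add_left, uh_smul_left, H.rr, H.sr h], map_eq_zero_iff _ e.injective]
  exact ⟨fun e' => congrArg (fun x : CfsgLib.Spor.QField => x.val.val) e',
    fun e' => congrArg CfsgLib.Spor.QField.mk (Fin.ext e')⟩

/-- The centre of the centraliser. -/
theorem Ctx.center_eq (C : Ctx e hF h τ δ c E ι d) {x : H} : (∀ y, y * x = x * y) ↔ x = 1 ∨ x = δ := by
  constructor
  · intro hx
    refine (C.M.ker x).1 ?_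
    haveI := Fintype.ofFinite F
    obtain ⟨hs, hna, -⟩ := psu_six_simple (F := F) (by rw [← Nat.card_eq_fintype_card, hF]; norm_num)
    haveI := hs
    have hmem : τ x ∈ Subgroup.center (Cfsg.PSU 6 F 2) := Subgroup.mem_center_iff.2 fun y => by
      obtain ⟨z, rfl⟩ := C.M.surj y
      rw [← map_mul, ← map_mul, hx z]
    rcases (inferInstance : (Subgroup.center (Cfsg.PSU 6 F 2)).Normal).eq_bot_or_eq_top with r | r
    · exact Subgroup.mem_bot.1 (r ▸ hmem)
    · exact absurd ⟨⟨fun a b => Subgroup.mem_center_iff.1 (r ▸ Subgroup.mem_top b) a⟩⟩ hna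
  · rintro (rfl | rfl) y
    · rw [one_mul, mul_one]
    · exact (C.M.central y).symm

theorem Ctx.nb_ne_empty (C : Ctx e hF h τ δ c E ι d) : ι (E (yPt c)) ∈ nb (conjugatesOf d) d :=
  Ctx.pts_cSet C (yPt_spec C.M.lt).1

/-- The members commuting with the involution generate its centraliser. -/
theorem Ctx.closure_nb (C : Ctx e hF h τ δ c E ι d) (hq : Cfsg.IsQuasisimple H) :
    Subgroup.closure (nb (conjugatesOf d) d) = ι.range := by
  refine le_antisymm ((Subgroup.closure_le _).2 fun y hy => ?_) ?_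
  · obtain ⟨s, -, rfl⟩ := Ctx.mem_cSet C hy
    exact ⟨s, rfl⟩
  obtain ⟨K, hK⟩ : ∃ K, K = Subgroup.closure (cSet ι d) := ⟨_, rfl⟩
  haveI : K.Normal := by
    rw [hK]
    refine ⟨fun n hn g => ?_⟩
    induction hn using Subgroup.closure_induction with
    | mem x hx => exact Subgroup.subset_closure (Ctx.conj_cSet C hx g)
    | one => rw [mul_one, mul_inv_cancel]; exact one_mem _
    | mul x y _ _ ihx ihy =>
      rw [show g * (x * y) * g⁻¹ = g * x * g⁻¹ * (g * y * g⁻¹) by group]; exact mul_mem ihx ihy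
    | inv x _ ihx => rw [show g * x⁻¹ * g⁻¹ = (g * x * g⁻¹)⁻¹ by group]; exact inv_mem ihx
  have hy : E (yPt c) ∈ cSet ι d := Ctx.nb_ne_empty C
  rcases CfsgLib.Components.quasisimple_normal_eq_top_or_le_center hq K with r | r
  · rintro _ ⟨s, rfl⟩
    have hs : s ∈ K := r ▸ Subgroup.mem_top s
    rw [hK] at hs
    have h1 := Subgroup.mem_map_of_mem ι hs
    rw [MonoidHom.map_closure] at h1
    exact Subgroup.closure_mono (Set.image_subset_iff.2 fun x hx => hx) h1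
  · exfalso
    have h1 : E (yPt c) ∈ K := hK ▸ Subgroup.subset_closure hy
    have h2 := (Ctx.center_eq C).1 (Subgroup.mem_center_iff.1 (r h1))
    obtain ⟨u, hu, hu0, hτ⟩ := Ctx.cSet_tr C hy
    exact USix.pt_ne_one hF h hu hu0 (hτ.symm.trans ((C.M.ker _).2 h2))

/-- The map onto the points. -/
theorem Ctx.exists_pmap (C : Ctx e hF h τ δ c E ι d) (hq : Cfsg.IsQuasisimple H) :
    ∃ f : Subgroup.closure (nb (conjugatesOf d) d) →* Cfsg.PSU 6 F 2, PMap hF h (conjugatesOf d) d f ∧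
      ∀ (s : H) (hs : ι s ∈ Subgroup.closure (nb (conjugatesOf d) d)), f ⟨ι s, hs⟩ = τ s := by
  obtain ⟨η, hη⟩ : ∃ η : ↥(Subgroup.closure (nb (conjugatesOf d) d)) ≃* H,
      ∀ (s : H) (hs : ι s ∈ Subgroup.closure (nb (conjugatesOf d) d)), η ⟨ι s, hs⟩ = s :=
    ⟨(MulEquiv.subgroupCongr (Ctx.closure_nb C hq)).trans (MonoidHom.ofInjective C.as.inj).symm, fun s hs =>
      (MonoidHom.ofInjective C.as.inj).symm_apply_eq.2 (Subtype.ext rfl)⟩
  have hel : ∀ {y} (hy : y ∈ nb (conjugatesOf d) d), ∃ s ∈ cSet ι d, ι s = y ∧ η (el hy) = s := fun {y} hy => by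
    obtain ⟨s, hs, rfl⟩ := Ctx.mem_cSet C hy
    exact ⟨s, hs, rfl, hη s _⟩
  refine ⟨τ.comp η.toMonoidHom, ⟨C.M.surj.comp η.surjective, fun x => ?_, fun {y} hy => ?_, fun {y z} hy hz he => ?_,
    fun u hu hu0 => ?_⟩, fun s hs => congrArg τ (hη s hs)⟩
  · rw [Subgroup.mem_center_iff]
    constructor
    · intro hx y
      exact η.injective (by rw [map_mul, map_mul]; exact ((Ctx.center_eq C).2 ((C.M.ker _).1 hx) (η y)))
    · intro hx
      refine (C.M.ker _).2 ((Ctx.center_eq C).1 fun y => ?_)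
      obtain ⟨y', rfl⟩ := η.surjective y
      exact (map_mul η y' x).symm.trans ((congrArg η (hx y')).trans (map_mul η x y'))
  · obtain ⟨s, hs, -, he⟩ := hel hy
    obtain ⟨u, hu, hu0, hτ⟩ := Ctx.cSet_tr C hs
    exact ⟨u, hu, hu0, (congrArg τ he).trans hτ⟩
  · obtain ⟨s, hs, e1, h1⟩ := hel hy
    obtain ⟨t, ht, e2, h2⟩ := hel hz
    rw [← e1, ← e2, Ctx.cSet_inj C hs ht ((congrArg τ h1).symm.trans (he.trans (congrArg τ h2)))]
  · obtain ⟨v, hv, hv0, hτ⟩ := Ctx.cSet_tr C (Ctx.nb_ne_empty C : E (yPt c) ∈ cSet ι d)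
    obtain ⟨T, hT⟩ : ∃ T : Set (Cfsg.PSU 6 F 2), T = τ '' cSet ι d := ⟨_, rfl⟩
    have hsq : ∀ {s}, s ∈ cSet ι d → τ s * τ s = 1 := fun {s} hs => by
      obtain ⟨u, hu, -, hτ'⟩ := Ctx.cSet_tr C hs
      rw [hτ', USix.pt, ← QuotientGroup.mk_mul, tr_sq, QuotientGroup.mk_one]
    have hW : WeakTS T := by
      subst hT
      refine ⟨?_, ?_, ?_, ?_⟩
      · rintro _ ⟨s, hs, rfl⟩; exact hsq hs
      · rintro _ ⟨s, hs, rfl⟩ _ ⟨t, ht, rfl⟩
        by_cases hc : Commute s t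
        · left
          rw [(hc.map τ).mul_pow, pow_two, pow_two, hsq hs, hsq ht, one_mul]
        · right
          have h1 : τ s * τ t * τ s = τ t * τ s * τ t := by
            rw [← map_mul, ← map_mul, (Ctx.cSet_rel C hs ht).2 hc, map_mul, map_mul]
          calc (τ s * τ t) ^ 3 = τ s * τ t * τ s * (τ t * τ s * τ t) := by simp only [pow_succ, pow_zero, one_mul, mul_assoc]
            _ = τ t * τ s * (τ t * τ t) * τ s * τ t := by rw [h1]; simp only [mul_assoc]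
            _ = 1 := by rw [hsq ht, mul_one, mul_assoc (τ t), hsq hs, mul_one, hsq ht]
      · intro g
        obtain ⟨g, rfl⟩ := C.M.surj g
        rintro _ ⟨s, hs, rfl⟩
        exact ⟨g * s * g⁻¹, Ctx.conj_cSet C hs g, by simp⟩
      · rw [← MonoidHom.map_closure, ← MonoidHom.range_eq_top.2 C.M.surj, MonoidHom.range_eq_map]
        congr 1
        refine eq_top_iff.2 fun s _ => ?_
        have h1 : ι s ∈ Subgroup.closure (nb (conjugatesOf d) d) := (Ctx.closure_nb C hq).symm ▸ ⟨s, rfl⟩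
        have h2 : nb (conjugatesOf d) d = ι '' cSet ι d := Set.ext fun y =>
          ⟨fun hy => by obtain ⟨s, hs, e⟩ := Ctx.mem_cSet C hy; exact ⟨s, hs, e⟩,
            by rintro ⟨s, hs, rfl⟩; exact hs⟩
        rw [h2, ← MonoidHom.map_closure] at h1
        obtain ⟨s', hs', e0⟩ := h1
        exact C.as.inj e0 ▸ hs'
    obtain ⟨s, hs, hse⟩ : USix.pt hF h u hu ∈ τ '' cSet ι d :=
      hT ▸ pt_mem hF h hW hv hu hv0 hu0 (hT ▸ ⟨_, Ctx.nb_ne_empty C, hτ⟩)
    refine ⟨ι s, hs, ?_⟩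
    exact (congrArg τ (hη s _)).trans hse

set_option maxHeartbeats 2000000 in
/-- The graph around the involution. -/
theorem Ctx.localAt (C : Ctx e hF h τ δ c E ι d) (hq : Cfsg.IsQuasisimple H) :
    LocalAt (conjugatesOf d) d 693 180 51 45 := by
  obtain ⟨f, P, hf⟩ := Ctx.exists_pmap C hq
  obtain ⟨co⟩ := exists_coord hF
  have hrel : ∀ {y z}, y ∈ nb (conjugatesOf d) d → z ∈ nb (conjugatesOf d) d → (¬ Commute y z → y * z * y = z * y * z) ∧
      ∀ {u v : V F} {hu : uh σ u u = 0} {hv : uh σ v v = 0}, (∀ hy, f (⟨y, hy⟩) = USix.pt hF h u hu) →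
        (∀ hz, f (⟨z, hz⟩) = USix.pt hF h v hv) → (Commute y z ↔ uh σ u v = 0) := fun {y z} hy hz => by
    obtain ⟨s, hs, rfl⟩ := Ctx.mem_cSet C hy
    obtain ⟨t, ht, rfl⟩ := Ctx.mem_cSet C hz
    have hc : Commute (ι s) (ι t) ↔ Commute s t :=
      ⟨fun h1 => C.as.inj (by rw [map_mul, map_mul]; exact h1.eq), fun h1 => h1.map ι⟩
    refine ⟨fun hn => ?_, fun {u v hu hv} e1 e2 => ?_⟩
    · rw [← map_mul, ← map_mul, (Ctx.cSet_rel C hs ht).2 (fun h1 => hn (hc.2 h1)), map_mul, map_mul]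
    · rw [hc, ← (Ctx.cSet_rel C hs ht).1, ← hf s (Subgroup.subset_closure hy), ← hf t (Subgroup.subset_closure hz),
        e1, e2, pt_commute_iff hF h hu hv]
  have hnb : ∀ {p}, p ∈ nb (conjugatesOf d) d → nb (conjugatesOf d) d ∩ nb (conjugatesOf d) p =
      {y | y ∈ nb (conjugatesOf d) d ∧ Commute y p} \ {p} := fun {p} hp => by
    ext y
    exact ⟨fun hy => ⟨⟨hy.1, hy.2.2.2.symm⟩, hy.2.2.1⟩, fun hy => ⟨hy.1.1, hy.1.1.1, hy.2, hy.1.2.symm⟩⟩
  -- vectors of the common partners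
  have htwo : ∀ {p q : X}, p ∈ nb (conjugatesOf d) d → q ∈ nb (conjugatesOf d) d → ∀ {u v : V F}
      {hu : uh σ u u = 0} {hv : uh σ v v = 0}, (∀ hp, f (⟨p, hp⟩) = USix.pt hF h u hu) →
      (∀ hq, f (⟨q, hq⟩) = USix.pt hF h v hv) →
      3 * {y | y ∈ nb (conjugatesOf d) d ∧ Commute y p ∧ Commute y q}.ncard =
        {w | w ≠ 0 ∧ uh σ w w = 0 ∧ (uh σ w u = 0 ∧ uh σ w v = 0)}.ncard := fun {p q} hp hq {u v hu hv} ep eq' =>
    P.point_count _ (fun _ hy => hy.1) (fun w => uh σ w u = 0 ∧ uh σ w v = 0) fun {y} hy {w hw} _ ey =>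
      ⟨fun hc => ⟨((hrel hy hp).2 (fun _ => ey) ep).1 hc.2.1, ((hrel hy hq).2 (fun _ => ey) eq').1 hc.2.2⟩,
        fun hc => ⟨hy, ((hrel hy hp).2 (fun _ => ey) ep).2 hc.1, ((hrel hy hq).2 (fun _ => ey) eq').2 hc.2⟩⟩
  have h181 : ∀ {p}, p ∈ nb (conjugatesOf d) d → {y | y ∈ nb (conjugatesOf d) d ∧ Commute y p}.ncard = 181 := by
    intro p hp
    obtain ⟨u, hu, hu0, eu⟩ := P.pt hp
    obtain ⟨r, s, Hy, hr⟩ := exists_frame_at hF h hu hu0
    have h1 := P.point_count {y | y ∈ nb (conjugatesOf d) d ∧ Commute y p} (fun _ hy => hy.1)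
      (fun v => uh σ v (r 0) = 0) fun {y} hy {w hw} _ ey =>
        ⟨fun hc => hr ▸ ((hrel hy hp).2 (fun _ => ey) (fun _ => eu)).1 hc.2,
          fun hc => ⟨hy, ((hrel hy hp).2 (fun _ => ey) (fun _ => eu)).2 (hr ▸ hc)⟩⟩
    rw [Hy.count h co _ (fun c => !Nat.beq c 0 && isoN c && Nat.beq (c / 64 % 4) 0) fun c hc => by
      obtain ⟨a, b, b', -⟩ := cv_props co Hy h hc
      rw [Bool.and_eq_true, Bool.and_eq_true, ← a, ← b, ← b']; tauto, count_perp] at h1
    omega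
  refine ⟨fun x hx y hy hn => (hrel hx hy).1 hn, P.nb_ncard, fun p hp => ?_, fun p hp q hq => ?_,
    fun p hp q hq hn => ?_, fun x hx y hy => ?_⟩
  · rw [hnb hp]
    have h1 := Set.ncard_sdiff_singleton_of_mem
      (show p ∈ {y | y ∈ nb (conjugatesOf d) d ∧ Commute y p} from ⟨hp, Commute.refl p⟩)
    rw [h181 hp] at h1
    exact h1
  · obtain ⟨u, hu, hu0, eu⟩ := P.pt hp
    obtain ⟨v, hv, hv0, ev⟩ := P.pt hq.1
    have huv : uh σ u v = 0 := ((hrel hp hq.1).2 (fun _ => eu) (fun _ => ev)).1 hq.2.2.2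
    have hli : LinearIndependent F ![u, v] := (LinearIndependent.pair_iff' hu0).2 fun a e0 => hq.2.2.1 (by
      subst e0
      have ha : a ≠ 0 := fun e1 => hv0 (by rw [e1, zero_smul])
      refine P.inj hq.1 hp (ev.trans (Eq.trans ?_ eu.symm))
      rw [USix.pt, USix.pt, tr_smul hF h hu ha])
    obtain ⟨r, s, Hy⟩ := exists_frame hF h
    have hr : LinearIndependent F ![r 0, r 1] := LinearIndependent.pair_iff.2 fun x y e0 => by
      have h0 := congrArg (fun v => uh σ v (s 0)) e0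
      have h1 := congrArg (fun v => uh σ v (s 1)) e0
      simp [uh_add_left, uh_smul_left, Hy.rs, uh_zero_left] at h0 h1
      exact ⟨h0, h1⟩
    obtain ⟨g, hg, hgw⟩ := exists_gu_map h ![r 0, r 1] ![u, v] hr hli fun i j => by
      fin_cases i <;> fin_cases j <;> simp [Hy.rr, hu, hv, huv, h.swap_zero huv]
    have H1 : Hyp σ (fun i => g.1.mulVec (r i)) fun i => g.1.mulVec (s i) :=
      ⟨fun i j => by rw [gu_uh h hg, Hy.rr], fun i j => by rw [gu_uh h hg, Hy.ss],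
        fun i j => by rw [gu_uh h hg, Hy.rs]⟩
    have h1 := htwo hp hq.1 (hu := hu) (hv := hv) (fun _ => eu) (fun _ => ev)
    rw [H1.count h co _ (fun c => !Nat.beq c 0 && isoN c && (Nat.beq (c / 64 % 4) 0 && Nat.beq (c / 256 % 4) 0))
      fun c hc => by
      obtain ⟨a, b, b', -⟩ := cv_props co H1 h hc
      have b2 := cv_line co H1 h c
      have e0 : g.1.mulVec (r 0) = u := hgw 0
      have e1 : g.1.mulVec (r 1) = v := hgw 1
      simp only [e0] at b'
      simp only [e1] at b2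
      rw [Bool.and_eq_true, Bool.and_eq_true, Bool.and_eq_true, ← a, ← b, ← b', ← b2]; tauto, count_perp_line] at h1
    have hset : nb (conjugatesOf d) d ∩ (nb (conjugatesOf d) p ∩ nb (conjugatesOf d) q) =
        {y | y ∈ nb (conjugatesOf d) d ∧ Commute y p ∧ Commute y q} \ {p, q} := by
      ext y
      exact ⟨fun hy => ⟨⟨hy.1, hy.2.1.2.2.symm, hy.2.2.2.2.symm⟩, fun h2 => h2.elim hy.2.1.2.1 hy.2.2.2.1⟩,
        fun hy => ⟨hy.1.1, ⟨hy.1.1.1, fun e => hy.2 (Or.inl e), hy.1.2.1.symm⟩,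
          hy.1.1.1, fun e => hy.2 (Or.inr e), hy.1.2.2.symm⟩⟩
    rw [hset, Set.ncard_sdiff (by
      rintro y (rfl | rfl)
      · exact ⟨hp, Commute.refl _, hq.2.2.2⟩
      · exact ⟨hq.1, hq.2.2.2.symm, Commute.refl _⟩), Set.ncard_pair hq.2.2.1.symm]
    omega
  · obtain ⟨u, hu, hu0, eu⟩ := P.pt hp
    obtain ⟨v, hv, hv0, ev⟩ := P.pt hq
    have huv : uh σ u v ≠ 0 := fun e0 => hn (((hrel hp hq).2 (fun _ => eu) (fun _ => ev)).2 e0)
    obtain ⟨r, s, Hy, hr0, hs0⟩ := exists_hyp hF h hu hv huv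
    have h1 := htwo hp hq (hu := hu) (hv := hv) (fun _ => eu) (fun _ => ev)
    have hsv : ∀ w, uh σ w (s 0) = 0 ↔ uh σ w v = 0 := fun w => by
      rw [hs0, uh_smul_right, mul_eq_zero, or_iff_right ((map_ne_zero σ).2 huv)]
    rw [Hy.count h co _ (fun c => !Nat.beq c 0 && isoN c && (Nat.beq (c / 64 % 4) 0 && Nat.beq (c % 4) 0))
      fun c hc => by
      obtain ⟨a, b, b', b2⟩ := cv_props co Hy h hc
      rw [hr0] at b'
      rw [hsv] at b2
      rw [Bool.and_eq_true, Bool.and_eq_true, Bool.and_eq_true, ← a, ← b, ← b', ← b2]; tauto, count_perp_two] at h1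
    have hset : nb (conjugatesOf d) d ∩ (nb (conjugatesOf d) p ∩ nb (conjugatesOf d) q) =
        {y | y ∈ nb (conjugatesOf d) d ∧ Commute y p ∧ Commute y q} := by
      ext y
      exact ⟨fun hy => ⟨hy.1, hy.2.1.2.2.symm, hy.2.2.2.2.symm⟩,
        fun hy => ⟨hy.1, ⟨hy.1.1, fun e => hn (e ▸ hy.2.2), hy.2.1.symm⟩,
          hy.1.1, fun e => hn (e ▸ hy.2.1).symm, hy.2.2.symm⟩⟩
    rw [hset]
    omega
  · obtain ⟨s, hs, rfl⟩ := Ctx.mem_cSet C hx
    obtain ⟨t, ht, rfl⟩ := Ctx.mem_cSet C hy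
    obtain ⟨k, hk⟩ := Ctx.cSet_trans C hs ht
    exact ⟨ι k, C.fix_d k, by rw [← map_inv, ← map_mul, ← map_mul, hk]⟩

end CfsgLib.KnownB.TypeCentral
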