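import Cfsg.Agent.Lib.ThreeTransp.Neighbours

/-!
Two involutions: conjugate inside what they generate, or commuting with a third involution there.
-/

set_option autoImplicit false

namespace CfsgLib.KnownB.TypeCentral

variable {G : Type*} [Group G] [Finite G]

/-- The dihedral alternatives. -/
theorem dihedral {x y : G} (hx : x * x = 1) (hy : y * y = 1) :
    (∃ c : G, (∀ u, Commute u x → Commute u y → Commute u c) ∧ c * y * c⁻¹ = x) ∨
    ∃ w : G, w ≠ 1 ∧ w * w = 1 ∧ Commute w x ∧ Commute w y ∧ (∀ u, Commute u x → Commute u y → Commute u w) ∧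
      (IsConj y (w * y) ∧ IsConj x (w * x) ∨ IsConj x (w * y) ∧ IsConj y (w * x)) := by
  obtain ⟨r, hr⟩ : ∃ r, r = y * x := ⟨_, rfl⟩
  have hxi : x⁻¹ = x := inv_eq_of_mul_eq_one_right hx
  have hyi : y⁻¹ = y := inv_eq_of_mul_eq_one_right hy
  have hri : r⁻¹ = x * y := by rw [hr, _root_.mul_inv_rev, hxi, hyi]
  have sy : ∀ n : ℕ, y * r ^ n = (r ^ n)⁻¹ * y := fun n => by
    have h0 : SemiconjBy y r r⁻¹ := by
      show y * r = r⁻¹ * y
      rw [hri, hr, ← mul_assoc, hy, one_mul, mul_assoc, hy, mul_one]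
    have := h0.pow_right n
    rwa [inv_pow] at this
  have sx : ∀ n : ℕ, x * r ^ n = (r ^ n)⁻¹ * x := fun n => by
    have h0 : SemiconjBy x r r⁻¹ := by
      show x * r = r⁻¹ * x
      rw [hri, hr, mul_assoc]
    have := h0.pow_right n
    rwa [inv_pow] at this
  have hcy : ∀ n : ℕ, r ^ n * y * (r ^ n)⁻¹ = r ^ (n + n) * y := fun n => by
    have h1 : y * (r ^ n)⁻¹ = r ^ n * y := by rw [mul_inv_eq_iff_eq_mul, mul_assoc, sy n, mul_inv_cancel_left]
    rw [mul_assoc, h1, ← mul_assoc, ← pow_add]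
  have hcx : ∀ n : ℕ, r ^ n * x * (r ^ n)⁻¹ = r ^ (n + n) * x := fun n => by
    have h1 : x * (r ^ n)⁻¹ = r ^ n * x := by rw [mul_inv_eq_iff_eq_mul, mul_assoc, sx n, mul_inv_cancel_left]
    rw [mul_assoc, h1, ← mul_assoc, ← pow_add]
  have hcu : ∀ (n : ℕ) (u : G), Commute u x → Commute u y → Commute u (r ^ n) := fun n u h1 h2 =>
    ((hr ▸ h2.mul_right h1 : Commute u r)).pow_right n
  obtain ⟨j, hj | hj⟩ := Nat.even_or_odd' (orderOf r)
  · right
    have hpos := orderOf_pos r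
    have hw2 : r ^ j * r ^ j = 1 := by rw [← pow_add, show j + j = orderOf r by omega, pow_orderOf_eq_one]
    have hwi : (r ^ j)⁻¹ = r ^ j := inv_eq_of_mul_eq_one_right hw2
    refine ⟨r ^ j, fun e => ?_, hw2, ?_, ?_, hcu j, ?_⟩
    · have := Nat.le_of_dvd (by omega) (orderOf_dvd_of_pow_eq_one e)
      omega
    · exact ((sx j).trans (by rw [hwi])).symm
    · exact ((sy j).trans (by rw [hwi])).symm
    obtain ⟨i, rfl | rfl⟩ := Nat.even_or_odd' j
    · exact Or.inl ⟨isConj_iff.2 ⟨r ^ i, by rw [hcy, two_mul]⟩, isConj_iff.2 ⟨r ^ i, by rw [hcx, two_mul]⟩⟩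
    · refine Or.inr ⟨isConj_iff.2 ⟨r ^ i * y, ?_⟩, isConj_iff.2 ⟨r ^ i, ?_⟩⟩
      · rw [show r ^ i * y * x * (r ^ i * y)⁻¹ = r ^ i * (y * x * y⁻¹) * (r ^ i)⁻¹ by group, hyi, ← hr,
          ← mul_assoc (r ^ i), ← pow_succ, mul_assoc, show y * (r ^ i)⁻¹ = r ^ i * y by
            rw [mul_inv_eq_iff_eq_mul, mul_assoc, sy i, mul_inv_cancel_left], ← mul_assoc, ← pow_add]
        congr 2; omega
      · rw [hcy, show 2 * i + 1 = (i + i) + 1 by omega, pow_succ, mul_assoc]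
        congr 1
        rw [hr, mul_assoc, hx, mul_one]
  · refine Or.inl ⟨r ^ j, hcu j, ?_⟩
    rw [hcy]
    have h1 : r ^ (j + j) = r⁻¹ := eq_inv_of_mul_eq_one_left (by
      rw [← pow_succ, show j + j + 1 = orderOf r by omega, pow_orderOf_eq_one])
    rw [h1, hri, mul_assoc, hy, mul_one]

end CfsgLib.KnownB.TypeCentral
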