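import Cfsg.Agent.Lib.Coprime.Action
import Cfsg.Agent.Lib.Base.Cores

/-!
A subgroup of odd order normalised by an elementary abelian two-group lies in a subgroup containing the
fixed points of some of its involutions, if an odd number of these involutions has product one.
-/

set_option autoImplicit false

namespace CfsgLib.KnownB.TypeCentral

open Cfsg
open scoped commutatorElement

variable {Q : Type*} [Group Q] [Finite Q]

theorem p_le_of_odd_relation {p : ℕ} (hp : p.Prime) (hodd : Odd p) {A H : Subgroup Q} (hAH : A ≤ H)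
    {T : List Q} (hT : ∀ z ∈ T, z ∈ A) (hT2 : ∀ z ∈ T, z * z = 1) (hlen : Odd T.length) (hprod : T.prod = 1) :
    ∀ P : Subgroup Q, IsPGroup p P → A ≤ Subgroup.normalizer (P : Set Q) →
      (∀ z ∈ T, ∀ x ∈ P, Commute z x → x ∈ H) → P ≤ H := by
  classical
  haveI := Fact.mk hp
  intro P
  induction P using WellFoundedLT.induction with
  | ind P ih =>
    intro hP hAP hfix
    haveI := hP.isNilpotent
    by_cases hbot : P = ⊥
    · rw [hbot]; exact bot_le
    obtain ⟨P', hP'⟩ : ∃ P' : Subgroup Q, P' = ⁅P, P⁆ := ⟨_, rfl⟩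
    have hP'le : P' ≤ P := hP' ▸ Subgroup.commutator_le.2 fun a ha b hb => by
      rw [commutatorElement_def]; exact mul_mem (mul_mem (mul_mem ha hb) (inv_mem ha)) (inv_mem hb)
    have hP'lt : P' < P := by
      refine lt_of_le_of_ne hP'le fun e => hbot ?_
      have h1 : commutator ↥P = ⊤ := by
        refine Subgroup.map_injective (Subgroup.subtype_injective P) ?_
        rw [commutator_def, Subgroup.map_commutator, ← MonoidHom.range_eq_map, Subgroup.range_subtype, ← hP', e]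
      have h2 : Subsingleton ↥P := by
        by_contra hns
        haveI : Nontrivial ↥P := not_subsingleton_iff_nontrivial.1 hns
        exact (Group.IsSolvable.commutator_lt_top_of_nontrivial ↥P).ne h1
      exact Subgroup.eq_bot_of_subsingleton P
    have hnorm : ∀ a ∈ A, ∀ x, x ∈ P → a * x * a⁻¹ ∈ P := fun a ha x hx =>
      (Subgroup.mem_normalizer_iff.1 (hAP ha) x).1 hx
    have hAP' : A ≤ Subgroup.normalizer (P' : Set Q) := fun a ha => by
      have hmap : P.map (MulAut.conj a).toMonoidHom = P := by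
        ext x
        constructor
        · rintro ⟨y, hy, rfl⟩; exact hnorm a ha y hy
        · intro hx
          exact ⟨a⁻¹ * x * a, by simpa using hnorm a⁻¹ (inv_mem ha) x hx, by simp [mul_assoc]⟩
      rw [Subgroup.mem_normalizer_iff]
      intro x
      have h1 : P'.map (MulAut.conj a).toMonoidHom = P' := by rw [hP', Subgroup.map_commutator, hmap]
      refine ⟨fun hx => h1 ▸ ⟨x, hx, rfl⟩, fun hx => ?_⟩
      rw [← h1] at hx
      obtain ⟨y, hy, hye⟩ := hx
      rwa [← (MulAut.conj a).injective hye]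
    have hP'H : P' ≤ H := ih P' hP'lt (hP.to_le hP'le) hAP' fun z hz x hx hc => hfix z hz x (hP'le hx) hc
    obtain ⟨P0, hP0⟩ : ∃ P0 : Subgroup Q, P0 = P ⊓ H := ⟨_, rfl⟩
    have hm0 : ∀ {x}, x ∈ P0 ↔ x ∈ P ∧ x ∈ H := fun {x} => by rw [hP0, Subgroup.mem_inf]
    have hA0 : ∀ a ∈ A, ∀ x ∈ P0, a * x * a⁻¹ ∈ P0 := fun a ha x hx =>
      hm0.2 ⟨hnorm a ha x (hm0.1 hx).1, mul_mem (mul_mem (hAH ha) (hm0.1 hx).2) (inv_mem (hAH ha))⟩
    have hcm : ∀ a ∈ P, ∀ b ∈ P, ⁅a, b⁆ ∈ P0 := fun a ha b hb =>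
      hm0.2 ⟨hP'le (hP' ▸ Subgroup.commutator_mem_commutator ha hb),
        hP'H (hP' ▸ Subgroup.commutator_mem_commutator ha hb)⟩
    have hnormal : ∀ g ∈ P, ∀ u ∈ P0, g * u * g⁻¹ ∈ P0 := fun g hg u hu => by
      rw [show g * u * g⁻¹ = ⁅g, u⁆ * u by rw [commutatorElement_def]; group]
      exact mul_mem (hcm g hg u (hm0.1 hu).1) hu
    -- an involution of the list inverts modulo the fixed part
    have hinv : ∀ z ∈ T, ∀ x ∈ P, x * (z * x * z⁻¹) ∈ P0 := by
      intro z hz x hx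
      have hzi : z⁻¹ = z := inv_eq_of_mul_eq_one_right (hT2 z hz)
      obtain ⟨y, hy⟩ : ∃ y, y = x * (z * x * z⁻¹) := ⟨_, rfl⟩
      rw [← hy]
      have hyP : y ∈ P := hy ▸ mul_mem hx (hnorm z (hT z hz) x hx)
      have hzy : y⁻¹ * (z * y * z⁻¹) ∈ P0 := by
        have e : y⁻¹ * (z * y * z⁻¹) = (z * x⁻¹ * z⁻¹) * x⁻¹ * (z * x * z⁻¹) * x := by
          rw [hy, show z * (x * (z * x * z⁻¹)) * z⁻¹ = z * x * z⁻¹ * ((z * z) * x * (z * z)⁻¹) by group, hT2 z hz]
          group
        rw [e]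
        have h3 := hcm _ (hnorm z (hT z hz) _ (inv_mem hx)) x⁻¹ (inv_mem hx)
        rw [commutatorElement_def, inv_inv] at h3
        rwa [show (z * x⁻¹ * z⁻¹)⁻¹ = z * x * z⁻¹ by group] at h3
      have hcl : ∀ u : ↥P0, y⁻¹ * (z * (y * u.1) * z⁻¹) ∈ P0 := fun u => by
        rw [show y⁻¹ * (z * (y * u.1) * z⁻¹) = y⁻¹ * (z * y * z⁻¹) * (z * u.1 * z⁻¹) by group]
        exact mul_mem hzy (hA0 z (hT z hz) u.1 u.2)
      let f : Equiv.Perm ↥P0 := Function.Involutive.toPerm
        (fun u => ⟨y⁻¹ * (z * (y * u.1) * z⁻¹), hcl u⟩) fun u => Subtype.ext (by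
          show y⁻¹ * (z * (y * (y⁻¹ * (z * (y * u.1) * z⁻¹))) * z⁻¹) = u.1
          rw [mul_inv_cancel_left, show z * (z * (y * u.1) * z⁻¹) * z⁻¹ = (z * z) * (y * u.1) * (z * z)⁻¹ by group,
            hT2 z hz]
          group)
      haveI := Fintype.ofFinite ↥P0
      obtain ⟨u, hu⟩ : ∃ u, f u = u := by
        obtain ⟨k, hk⟩ := IsPGroup.iff_card.1 (hP.to_le (fun u hu => (hm0.1 hu).1 : P0 ≤ P))
        refine Equiv.Perm.exists_fixed_point_of_prime (p := 2) (n := 1) ?_ ?_
        · rw [← Nat.card_eq_fintype_card, hk]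
          exact fun hd => (hodd.pow : Odd (p ^ k)).not_two_dvd_nat hd
        · refine Equiv.ext fun u => ?_
          rw [pow_one, pow_two]
          exact f.apply_symm_apply u
      have hu' : y⁻¹ * (z * (y * u.1) * z⁻¹) = u.1 := congrArg Subtype.val hu
      have hcz : Commute z (y * u.1) := by
        show z * (y * u.1) = y * u.1 * z
        calc z * (y * u.1) = y * (y⁻¹ * (z * (y * u.1) * z⁻¹)) * z := by group
          _ = y * u.1 * z := by rw [hu']
      have h4 : y * u.1 ∈ P0 :=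
        hm0.2 ⟨mul_mem hyP (hm0.1 u.2).1, hfix z hz _ (mul_mem hyP (hm0.1 u.2).1) hcz⟩
      simpa using mul_mem h4 (inv_mem u.2)
    have key : ∀ L : List Q, (∀ z ∈ L, z ∈ T) → ∀ x ∈ P, L.prod * x * L.prod⁻¹ ∈ P ∧
        (Even L.length → x⁻¹ * (L.prod * x * L.prod⁻¹) ∈ P0) ∧
        (Odd L.length → x * (L.prod * x * L.prod⁻¹) ∈ P0) := by
      intro L
      induction L with
      | nil =>
        intro _ x hx
        refine ⟨by simpa using hx, fun _ => by simp, fun h0 => ?_⟩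
        simp at h0
      | cons z L ihL =>
        intro hL x hx
        obtain ⟨h1, h2, h3⟩ := ihL (fun w hw => hL w (List.mem_cons_of_mem _ hw)) x hx
        obtain ⟨w, hw⟩ : ∃ w, w = L.prod * x * L.prod⁻¹ := ⟨_, rfl⟩
        rw [← hw] at h1 h2 h3
        rw [List.prod_cons, show z * L.prod * x * (z * L.prod)⁻¹ = z * w * z⁻¹ by rw [hw]; group]
        have hzw := hinv z (hL z (by simp)) w h1
        refine ⟨hnorm z (hT z (hL z (by simp))) w h1, fun he => ?_, fun ho => ?_⟩
        · rw [List.length_cons, Nat.even_add_one, Nat.not_even_iff_odd] at he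
          have h4 := mul_mem (inv_mem (h3 he)) hzw
          rw [show (x * w)⁻¹ * (w * (z * w * z⁻¹)) = w⁻¹ * (x⁻¹ * w * w⁻¹) * w * (z * w * z⁻¹) by group] at h4
          have h5 : w⁻¹ * x⁻¹ * w * (z * w * z⁻¹) ∈ P0 := by
            rwa [show w⁻¹ * x⁻¹ * w * (z * w * z⁻¹) = w⁻¹ * (x⁻¹ * w * w⁻¹) * w * (z * w * z⁻¹) by group]
          have h6 := mul_mem (hcm x⁻¹ (inv_mem hx) w⁻¹ (inv_mem h1)) h5
          rwa [show ⁅x⁻¹, w⁻¹⁆ * (w⁻¹ * x⁻¹ * w * (z * w * z⁻¹)) = x⁻¹ * (z * w * z⁻¹) by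
            rw [commutatorElement_def]; group] at h6
        · rw [List.length_cons, Nat.odd_add_one, Nat.not_odd_iff_even] at ho
          have h7 : w⁻¹ * x ∈ P0 := by
            have := inv_mem (h2 ho)
            rwa [_root_.mul_inv_rev, inv_inv] at this
          have h8 := mul_mem (hnormal w h1 _ h7) hzw
          rwa [show w * (w⁻¹ * x) * w⁻¹ * (w * (z * w * z⁻¹)) = x * (z * w * z⁻¹) by group] at h8
    intro x hx
    have h1 := (key T (fun _ hz => hz) x hx).2.2 hlen
    rw [hprod, one_mul, inv_one, mul_one] at h1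
    obtain ⟨k, hk⟩ := hP ⟨x, hx⟩
    have hk' : x ^ p ^ k = 1 := congrArg Subtype.val hk
    obtain ⟨m, hm⟩ : Odd (p ^ k) := hodd.pow
    have h2 : x = ((x * x) ^ m)⁻¹ := by
      refine eq_inv_of_mul_eq_one_right ?_
      rw [← hk', hm, pow_succ, pow_mul, pow_two]
    rw [h2]
    exact (hm0.1 (inv_mem (pow_mem h1 m))).2

/-- A subgroup of odd order is caught by the fixed points. -/
theorem le_of_odd_relation {A W H : Subgroup Q} (hA : IsPGroup 2 A) (hW : Odd (Nat.card W))
    (hAW : A ≤ Subgroup.normalizer (W : Set Q)) (hAH : A ≤ H) {T : List Q} (hT : ∀ z ∈ T, z ∈ A)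
    (hT2 : ∀ z ∈ T, z * z = 1) (hlen : Odd T.length) (hprod : T.prod = 1)
    (hfix : ∀ z ∈ T, ∀ x ∈ W, Commute z x → x ∈ H) : W ≤ H := by
  haveI := Fact.mk Nat.prime_two
  haveI : Group.IsNilpotent ↥A := hA.isNilpotent
  have hdvd : Nat.card W ∣ Nat.card ↥(W ⊓ H) := by
    rw [Nat.dvd_iff_prime_pow_dvd_dvd]
    intro p k hp hpk
    rcases Nat.eq_zero_or_pos k with rfl | hk
    · simp
    haveI := Fact.mk hp
    have hodd : Odd p := hW.of_dvd_nat ((dvd_pow_self p hk.ne').trans hpk)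
    have hcop : (Nat.card A).Coprime (Nat.card W) := by
      obtain ⟨n, hn⟩ := IsPGroup.iff_card.1 hA
      rw [hn]
      exact Nat.Coprime.pow_left n hW.coprime_two_left
    obtain ⟨P, hP⟩ := CfsgLib.Coprime.exists_invariant_sylow (p := p) hAW hcop (Or.inl inferInstance)
    have hle : (P : Subgroup W).map W.subtype ≤ W := Subgroup.map_subtype_le _
    have hPH := p_le_of_odd_relation hp hodd hAH hT hT2 hlen hprod _ (P.isPGroup'.map W.subtype) hP
      fun z hz x hx hc => hfix z hz x (hle hx) hc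
    have h1 : Nat.card ↥(P : Subgroup W) ∣ Nat.card ↥(W ⊓ H) := by
      rw [← Subgroup.card_map_of_injective (Subgroup.subtype_injective W)]
      exact Subgroup.card_dvd_of_le (le_inf hle hPH)
    rw [P.card_eq_multiplicity] at h1
    exact (pow_dvd_pow p ((hp.pow_dvd_iff_le_factorization Nat.card_pos.ne').1 hpk)).trans h1
  have h := Subgroup.eq_of_le_of_card_ge (inf_le_left : W ⊓ H ≤ W) (Nat.le_of_dvd Nat.card_pos hdvd)
  exact inf_eq_left.1 h

end CfsgLib.KnownB.TypeCentral
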