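import Cfsg.Agent.Lib.KnownB.TypeCentral.Counts22
import Cfsg.Agent.Lib.KnownB.TypeCentral.Global
import Cfsg.Agent.Lib.KnownB.TypeM22.Invol

/-!
The plane subgroup is a frame.
-/

set_option autoImplicit false
set_option maxRecDepth 20000

noncomputable section

namespace CfsgLib.KnownB.TypeCentral

open CfsgLib.Classical.Unitary CfsgLib.Spor CfsgLib.KnownB.U62Thompson CfsgLib.KnownB.Fi22Double CfsgLib.ThreeTransp
  CfsgLib.KnownB.TypeM22

universe w z

variable {F : Type} [Field F] {e : QField →+* F} {σ : F →+* F} [Finite F] {hF : Nat.card F = 2 ^ 2}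
  {h : UFrob σ 2} {H : Type w} [Group H] [Finite H] {τ : H →* Cfsg.PSU 6 F 2} {δ : H} {c : ℕ} {E : ℕ → H}
  {X : Type z} [Group X] [Finite X] {ι : H →* X} {d : X}

omit [Finite H] [Finite X] in
theorem Ctx.prod_map (C : Ctx e hF h τ δ c E ι d) : ∀ L : List ℕ,
    (L.map fun p => ι (E p)).prod = ι (E (L.foldr Nat.xor 0)) ∧ ((∀ p ∈ L, p < 2048) → L.foldr Nat.xor 0 < 2048)
  | [] => ⟨by simp [cov_zero_aux C.M.mul], fun _ => by norm_num⟩
  | p :: L => by
    obtain ⟨h1, h2⟩ := Ctx.prod_map C L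
    refine ⟨?_, fun hL => xor_lt (hL p (by simp)) (h2 fun q hq => hL q (List.mem_cons_of_mem _ hq))⟩
    rw [List.map_cons, List.prod_cons, h1, ← map_mul, C.M.mul]
    rfl

omit [Finite X] in
theorem Ctx.allP_pt (C : Ctx e hF h τ δ c E ι d) {p : ℕ} (hp : p ∈ allP c) : p < 2048 ∧ C.IsPt (ι (E p)) := by
  rcases List.mem_cons.1 hp with rfl | hp
  · exact ⟨(zOf_pos C.M.lt).2.2.1, by rw [C.d_eq]; exact C.d_pt⟩
  · exact ⟨(pts_spec C.M.lt hp).1, C.pt_iff.2 (Or.inr ⟨p, hp, rfl⟩)⟩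

omit [Finite X] in
theorem Ctx.pt_allP (C : Ctx e hF h τ δ c E ι d) {x : X} (hx : C.IsPt x) : ∃ p ∈ allP c, x = ι (E p) := by
  rcases C.pt_iff.1 hx with r | ⟨p, hp, r⟩
  · exact ⟨dOf c, List.mem_cons_self, r.trans C.d_eq.symm⟩
  · exact ⟨p, List.mem_cons_of_mem _ hp, r⟩

omit [Finite X] in
theorem Ctx.allP_inj (C : Ctx e hF h τ δ c E ι d) {p q : ℕ} (hp : p ∈ allP c) (hq : q ∈ allP c)
    (he : ι (E p) = ι (E q)) : p = q := by
  rcases List.mem_cons.1 hp with rfl | hp <;> rcases List.mem_cons.1 hq with rfl | hq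
  · rfl
  · exact absurd (he.symm.trans C.d_eq) (C.pts_ne hq)
  · exact absurd (he.trans C.d_eq) (C.pts_ne hp)
  · exact C.pts_inj hp hq he

/-- The component's stabiliser has every involution conjugate into the plane subgroup. -/
theorem Ctx.into_stab (C : Ctx e hF h τ δ c E ι d) {D : Set X} {v k l m : ℕ} (Γ : Graph D v k l m)
    (hD : D = conjugatesOf d) {t : X} (ht : t * t = 1) (hts : Reach D d (t * d * t⁻¹)) :
    ∃ g, Reach D d (g * d * g⁻¹) ∧ g * t * g⁻¹ ∈ C.A0 := by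
  have hι : ∀ s, ι s ∈ stab Γ d := fun s => by
    show Reach D d (ι s * d * (ι s)⁻¹)
    rw [C.fix_d]
    exact Relation.ReflTransGen.refl
  have hds : d ∈ stab Γ d := C.as.image ▸ hι δ
  obtain ⟨g, hg1, hg2⟩ := C.wc
  have hgs : g ∈ stab Γ d := reach_commute (hD ▸ mem_conjugatesOf_self) (hD ▸ isConj_iff.2 ⟨g, rfl⟩)
    ((C.as.range _).1 hg1).symm
  obtain ⟨ι', hι'⟩ : ∃ ι' : H →* ↥(stab Γ d), ∀ s, (ι' s : X) = ι s := ⟨ι.codRestrict _ hι, fun _ => rfl⟩
  have C' : Ctx e hF h τ δ c E ι' ⟨d, hds⟩ := by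
    refine ⟨C.M, ⟨fun a b hab => C.as.inj (by rw [← hι', ← hι', hab]), fun x => ?_,
      Subtype.ext ((hι' δ).trans C.as.image)⟩, ⟨g, hgs⟩, ?_, fun e0 => hg2 (congrArg Subtype.val e0)⟩
    · constructor
      · rintro ⟨s, rfl⟩
        exact Subtype.ext (by rw [Subgroup.coe_mul, Subgroup.coe_mul, hι']; exact (C.as.range _).1 ⟨s, rfl⟩)
      · intro hx
        obtain ⟨s, hs⟩ := (C.as.range x.1).2 (congrArg Subtype.val hx)
        exact ⟨s, Subtype.ext ((hι' s).trans hs)⟩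
    · obtain ⟨s, hs⟩ := hg1
      exact ⟨s, Subtype.ext ((hι' s).trans hs)⟩
  obtain ⟨a, ha⟩ := C'.conj_into (t := (⟨t, hts⟩ : ↥(stab Γ d))) (Subtype.ext ht)
  obtain ⟨m, hm, -, hme⟩ := C'.mem_A0.1 ha
  refine ⟨a.1, a.2, ?_⟩
  have h1 : a.1 * t * a.1⁻¹ = ι (E m) := (congrArg Subtype.val hme).trans (hι' _)
  exact h1 ▸ C.E_mem hm

/-- The plane subgroup is a frame. -/
theorem Ctx.frame (C : Ctx e hF h τ δ c E ι d) {v k l m : ℕ} (Γ : Graph (conjugatesOf d) v k l m) :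
    Frame (conjugatesOf d) d C.A0 := by
  have hout := List.all_eq_true.1 out_ok c (List.mem_range.2 C.M.lt)
  obtain ⟨hrelm, hlen, hrel0, -, -⟩ := rel_facts C.M.lt
  refine ⟨mem_conjugatesOf_self, C.d_mem, fun x hx y hy => C.comm_A0 hx hy, fun x hx => C.sq_A0 hx,
    fun x hx hne => ?_, fun t ht hts => Ctx.into_stab C Γ rfl ht hts, ?_, fun p hp hall => ?_,
    fun a haA b hbA q hqA ha hb hq hab haq hbq => ?_, ?_⟩
  · obtain ⟨m, hm, hmc, rfl⟩ := C.mem_A0.1 hx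
    have hm0 : canZ (zOf c) m ≠ 0 := fun e0 => hne (by
      rw [hmc] at e0
      rw [e0, cov_zero_aux C.M.mul, map_one])
    have h1 := List.all_eq_true.1 (List.all_eq_true.1 sums_ok c (List.mem_range.2 C.M.lt)) m (List.mem_range.2 hm)
    simp only [Bool.or_eq_true] at h1
    rcases h1 with h1 | h1
    · exact absurd (Nat.eq_of_beq_eq_true h1) hm0
    rcases sums_spec c _ 0 _ h1 with r | ⟨l, hl, hkl⟩
    · simp at r
    obtain ⟨hsub, hl1, hl3⟩ : List.Sublist l (allP c) ∧ 1 ≤ l.length ∧ l.length ≤ 3 := by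
      simp only [sumsThree, List.mem_append, List.mem_sublistsLen] at hl
      rcases hl with ⟨s, e0⟩ | ⟨s, e0⟩ | ⟨s, e0⟩ <;> exact ⟨s, by omega, by omega⟩
    have hnd : l.Nodup := (List.nodup_cons.2
      ⟨fun hp => (pts_spec C.M.lt hp).2.2.1 rfl, List.nodup_range.filter _⟩ : (allP c).Nodup).sublist hsub
    obtain ⟨hpr, hlt⟩ := Ctx.prod_map C l
    have heq : ι (E m) = (l.map fun p => ι (E p)).prod := by
      rw [hpr]
      exact (C.E_eq hm (hlt fun p hp => (Ctx.allP_pt C (hsub.subset hp)).1)).2 hkl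
    have hpt : ∀ p ∈ l, ι (E p) ∈ C.A0 ∧ ι (E p) ∈ conjugatesOf d := fun p hp => (Ctx.allP_pt C (hsub.subset hp)).2
    have hd : ∀ p ∈ l, ∀ q ∈ l, p ≠ q → ι (E p) ≠ ι (E q) := fun p hp q hq hne e0 =>
      hne (Ctx.allP_inj C (hsub.subset hp) (hsub.subset hq) e0)
    match l, hl1, hl3 with
    | [p], _, _ => exact Or.inl (by simpa [heq] using (hpt p (by simp)).2)
    | [p, q], _, _ =>
      refine Or.inr (Or.inl ⟨_, (hpt p (by simp)).1, _, (hpt q (by simp)).1, (hpt p (by simp)).2, (hpt q (by simp)).2,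
        hd p (by simp) q (by simp) (by simp at hnd; exact hnd), by simpa using heq⟩)
    | [p, q, r], _, _ =>
      simp only [List.nodup_cons, List.mem_cons, List.not_mem_nil, or_false, not_or] at hnd
      refine Or.inr (Or.inr ⟨_, (hpt p (by simp)).1, _, (hpt q (by simp)).1, _, (hpt r (by simp)).1,
        (hpt p (by simp)).2, (hpt q (by simp)).2, (hpt r (by simp)).2, hd p (by simp) q (by simp) hnd.1.1,
        hd p (by simp) r (by simp) hnd.1.2, hd q (by simp) r (by simp) hnd.2.1, by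
        simpa [mul_assoc] using heq⟩)
  · refine ⟨(relT22 c).map fun p => ι (E p), fun x hx => ?_, by rw [List.length_map, hlen]; decide, ?_⟩
    · obtain ⟨p, hp, rfl⟩ := List.mem_map.1 hx
      exact ⟨(Ctx.allP_pt C (List.mem_cons_of_mem _ (hrelm p hp))).2.1,
        (Ctx.allP_pt C (List.mem_cons_of_mem _ (hrelm p hp))).2.2⟩
    · obtain ⟨hpr, hlt⟩ := Ctx.prod_map C (relT22 c)
      rw [hpr, (C.E_eq (hlt fun p hp => (pts_spec C.M.lt (hrelm p hp)).1) (by norm_num : (0 : ℕ) < 2048)).2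
        (by rw [hrel0, canZ, show Nat.ble 0 (Nat.xor 0 (zOf c)) = true from rfl, cond_true]), cov_zero_aux C.M.mul, map_one]
  · have hp2 : p * p = 1 := Γ.sq p hp
    obtain ⟨B, hB⟩ : ∃ B, B = Subgroup.closure ((C.A0 : Set X) ∪ {p}) := ⟨_, rfl⟩
    have hgen : ∀ a ∈ (C.A0 : Set X) ∪ {p}, ∀ a' ∈ (C.A0 : Set X) ∪ {p}, a * a' = a' * a := by
      rintro a (ha | rfl) a' (ha' | rfl)
      exacts [C.comm_A0 ha ha', (hall a ha).eq, (hall a' ha').eq.symm, rfl]
    have hBc : ∀ a ∈ B, ∀ a' ∈ B, a * a' = a' * a := fun a ha a' ha' => by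
      haveI := Subgroup.isMulCommutative_closure hgen
      exact congrArg Subtype.val (mul_comm' (⟨a, hB ▸ ha⟩ : ↥(Subgroup.closure ((C.A0 : Set X) ∪ {p})))
        ⟨a', hB ▸ ha'⟩)
    have hBs : ∀ a ∈ B, a ^ 2 = 1 := by
      intro a ha
      rw [hB] at ha
      induction ha using Subgroup.closure_induction with
      | mem a ha =>
        rcases ha with ha | rfl
        · rw [pow_two]; exact C.sq_A0 ha
        · rw [pow_two]; exact hp2
      | one => exact one_pow _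
      | mul a a' ha ha' iha iha' =>
        rw [(show Commute a a' from hBc a (hB ▸ ha) a' (hB ▸ ha')).mul_pow, iha, iha', one_mul]
      | inv a ha iha => rw [inv_pow, iha, inv_one]
    have hle : C.A0 ≤ B := hB ▸ fun a ha => Subgroup.subset_closure (Or.inl ha)
    have hpN : p ∈ C.N := C.mem_N fun m hm => by
      rw [(hall _ (C.E_mem hm)).eq.symm, mul_inv_cancel_right]
      exact C.E_mem hm
    have h1 := C.unique (B := B) (hB ▸ (Subgroup.closure_le _).2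
      (Set.union_subset C.A0_le_N (Set.singleton_subset_iff.2 hpN))) (elem_iff.2 ⟨hBc, hBs⟩)
      (C.card_A0 ▸ Subgroup.card_le_of_le hle)
    exact h1 ▸ hB ▸ Subgroup.subset_closure (Or.inr rfl)
  · obtain ⟨a, hap, rfl⟩ := Ctx.pt_allP C ⟨haA, ha⟩
    obtain ⟨b, hbp, rfl⟩ := Ctx.pt_allP C ⟨hbA, hb⟩
    obtain ⟨q, hqp, rfl⟩ := Ctx.pt_allP C ⟨hqA, hq⟩
    simp only [outCheck, U62Mult.forceN_eq, List.all_eq_true, List.any_eq_true, Bool.or_eq_true, Nat.beq_eq,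
      Bool.not_eq_true'] at hout
    rcases hout a hap b hbp q hqp with ((r | r) | r) | ⟨y, hy, hyb⟩
    · exact absurd (by rw [r]) hab
    · exact absurd (by rw [r]) haq
    · exact absurd (by rw [r]) hbq
    obtain ⟨hylt, hypt⟩ := Ctx.allP_pt C hy
    refine ⟨_, hypt.1, hypt.2, fun p hpA p' hp'A hp hp' hne he => ?_⟩
    obtain ⟨i, hi, rfl⟩ := Ctx.pt_allP C ⟨hpA, hp⟩
    obtain ⟨j, hj, rfl⟩ := Ctx.pt_allP C ⟨hp'A, hp'⟩
    rw [← map_mul, ← map_mul, ← map_mul, ← map_mul, C.M.mul, C.M.mul, C.M.mul, C.M.mul] at he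
    have h2 := (C.E_eq (xor_lt (xor_lt (xor_lt (Ctx.allP_pt C hap).1 (Ctx.allP_pt C hbp).1) (Ctx.allP_pt C hqp).1) hylt)
      (xor_lt (Ctx.allP_pt C hi).1 (Ctx.allP_pt C hj).1)).1 he
    have h3 := mem_pairBits hi hj fun e0 => hne (by rw [e0])
    rw [← h2] at h3
    exact Bool.false_ne_true (hyb.symm.trans h3)
  · exact ⟨_, (C.pt_iff.2 (Or.inr ⟨_, (yPt_spec C.M.lt).1, rfl⟩)).1,
      (C.pt_iff.2 (Or.inr ⟨_, (yPt_spec C.M.lt).1, rfl⟩)).2, C.pts_ne (yPt_spec C.M.lt).1⟩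

end CfsgLib.KnownB.TypeCentral
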