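import Cfsg.Agent.Lib.KnownB.TypeCentral.Lift23
import Cfsg.Agent.Lib.KnownB.TypeCentral.Frame22
import Cfsg.Agent.Lib.KnownB.TypeCentral.Cancel

/-!
The preimage of the plane subgroup is a frame: no six of its 23 points have product one.
-/

set_option autoImplicit false
set_option maxRecDepth 20000

noncomputable section

namespace CfsgLib.KnownB.TypeCentral

open CfsgLib.Classical.Unitary CfsgLib.Spor CfsgLib.KnownB.U62Thompson CfsgLib.KnownB.Fi22Double
  CfsgLib.ThreeTransp CfsgLib.KnownB.TypeM22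

universe u

variable {F : Type} [Field F] {e : QField →+* F} {σ : F →+* F} [Finite F] {hF : Nat.card F = 2 ^ 2}
  {h : UFrob σ 2} {Cg : Type u} [Group Cg] [Finite Cg] {X : Type u} [Group X] [Finite X]
  {q : Cg →* X} {δ : Cg} {d' : X} {τ : ↥(Subgroup.centralizer ({d'} : Set X)) →* Cfsg.PSU 6 F 2} {c : ℕ}
  {E : ℕ → ↥((Subgroup.centralizer ({d'} : Set X)).comap q)}
  {G : Type u} [Group G] [Finite G] {j : Cg →* G} {d : G}

/-- the points -/
def Cover.IsPt (C : Cover e hF h q δ d' τ c E j d) (z : G) : Prop := z ∈ C.dbl.Ah.map j ∧ IsConj d z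

/-- the frame of the quotient -/
theorem Cover.frameX (C : Cover e hF h q δ d' τ c E j d) :
    ∃ v k l m, ∃ _ : Graph (conjugatesOf d') v k l m, Frame (conjugatesOf d') d' C.dbl.ctx.A0 := by
  obtain ⟨F', _, _, σ', hF', h', hP⟩ := C.set.exists_pmap
  obtain ⟨f, P⟩ := hP d' mem_conjugatesOf_self
  have hq : Cfsg.IsQuasisimple ↥(Subgroup.centralizer ({d'} : Set X)) :=
    P.centralizer_eq C.set hP mem_conjugatesOf_self ▸ P.quasisimple C.set hP mem_conjugatesOf_self
  have h2 : d' * d' = 1 := C.set.weak.sq d' mem_conjugatesOf_self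
  have h1 : d' ≠ 1 := fun e0 => by
    have := C.set.cls.ts.1 d' mem_conjugatesOf_self
    rw [e0, orderOf_one] at this
    omega
  have Γ := graph_of_local h2 h1 (Ctx.localAt C.dbl.ctx hq) params22
  exact ⟨_, _, _, _, Γ, Ctx.frame C.dbl.ctx Γ⟩

omit [Finite Cg] [Finite X] [Finite G] in
theorem Cover.comm_A (C : Cover e hF h q δ d' τ c E j d) {x y : G} (hx : x ∈ C.dbl.Ah.map j)
    (hy : y ∈ C.dbl.Ah.map j) : Commute x y := by
  obtain ⟨a, ha, rfl⟩ := hx
  obtain ⟨b, hb, rfl⟩ := hy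
  exact (show Commute a b from C.dbl.comm_Ah ha hb).map j

omit [Finite Cg] [Finite X] [Finite G] in
theorem Cover.sq_A (C : Cover e hF h q δ d' τ c E j d) {x : G} (hx : x ∈ C.dbl.Ah.map j) : x * x = 1 := by
  obtain ⟨a, ha, rfl⟩ := hx
  rw [← map_mul, C.dbl.sq_Ah ha, map_one]

omit [Finite Cg] [Finite X] [Finite G] in
theorem Cover.d_pt (C : Cover e hF h q δ d' τ c E j d) : C.IsPt d :=
  ⟨⟨δ, C.δ_mem, C.as.image⟩, IsConj.refl d⟩

/-- A point other than the involution lies over a point. -/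
theorem Cover.over (C : Cover e hF h q δ d' τ c E j d) {z : G} (hz : C.IsPt z) (hne : z ≠ d) :
    ∃ s ∈ C.dbl.Ah, IsConj d (j s) ∧ j s = z ∧ C.dbl.ctx.IsPt (q s) := by
  obtain ⟨⟨s, hs, rfl⟩, hc⟩ := hz
  exact ⟨s, hs, hc, rfl, (C.dbl.pt_or_eq C.as hs hc).resolve_left fun r => hne (r ▸ C.as.image)⟩

/-- No six points have product one. -/
theorem Cover.short (C : Cover e hF h q δ d' τ c E j d) {L : List G} (hL : ∀ z ∈ L, C.IsPt z) (hnd : L.Nodup)
    (hlen : L.length ≤ 6) (hprod : L.prod = 1) : L = [] := by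
  match L with
  | [] => rfl
  | y :: t =>
    exfalso
    obtain ⟨hyA, hyc⟩ := hL y (by simp)
    obtain ⟨n, hn, hny⟩ := C.dbl.exists_norm C.as hyA hyc
    obtain ⟨φ, hφ⟩ : ∃ φ : G ≃* G, ∀ x, φ x = n⁻¹ * x * n := ⟨MulAut.conj n⁻¹, fun x => by simp⟩
    rw [List.nodup_cons] at hnd
    have hφy : φ y = d := by rw [hφ, ← hny]; group
    have hmove : ∀ z ∈ t, C.IsPt (φ z) ∧ φ z ≠ d := fun z hz => by
      obtain ⟨hzA, hzc⟩ := hL z (by simp [hz])
      refine ⟨⟨?_, ?_⟩, fun e0 => hnd.1 ?_⟩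
      · rw [hφ]
        rw [Subgroup.mem_normalizer_iff] at hn
        exact (hn _).2 (by rw [show n * (n⁻¹ * z * n) * n⁻¹ = z by group]; exact hzA)
      · rw [hφ]; exact hzc.trans (isConj_iff.2 ⟨n⁻¹, by group⟩)
      · have e1 : z = y := φ.injective (e0.trans hφy.symm)
        exact e1 ▸ hz
    have hlift : ∀ z ∈ t, ∃ s, s ∈ C.dbl.Ah ∧ IsConj d (j s) ∧ j s = φ z ∧ C.dbl.ctx.IsPt (q s) :=
      fun z hz => C.over (hmove z hz).1 (hmove z hz).2
    choose s hsA hsc hsj hsp using hlift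
    obtain ⟨ss, hss⟩ : ∃ ss, ss = t.attach.map fun z => s z.1 z.2 := ⟨_, rfl⟩
    have hjss : ss.map j = t.map φ := by
      rw [hss, List.map_map]
      conv_rhs => rw [← List.attach_map_subtype_val t, List.map_map]
      exact List.map_congr_left fun z _ => hsj z.1 z.2
    have h1 : j (δ * ss.prod) = 1 := by
      rw [map_mul, C.as.image, map_list_prod, hjss, ← hφy, ← map_list_prod, ← map_mul, ← List.prod_cons, hprod,
        map_one]
    have h2 : (ss.map q).prod = 1 := by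
      have h3 : δ * ss.prod = 1 := C.as.inj (h1.trans (map_one j).symm)
      have h4 := congrArg q h3
      rwa [map_mul, C.q_δ, one_mul, map_one, map_list_prod] at h4
    obtain ⟨F', _, _, σ', hF', h', hP⟩ := C.set.exists_pmap
    have hmemss : ∀ x ∈ ss.map q, ∃ (z : G) (hz : z ∈ t), q (s z hz) = x := fun x hx => by
      obtain ⟨a, ha, rfl⟩ := List.mem_map.1 hx
      rw [hss] at ha
      obtain ⟨z, -, rfl⟩ := List.mem_map.1 ha
      exact ⟨z.1, z.2, rfl⟩
    have h0 := C.set.short_rel hP (l := ss.map q) (fun x hx => by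
        obtain ⟨z, hz, rfl⟩ := hmemss x hx
        exact (hsp z hz).2) (by
        rw [hss, List.map_map]
        refine (List.nodup_attach.2 hnd.2).map_on fun z _ w _ he => Subtype.ext (φ.injective ?_)
        rw [← hsj z.1 z.2, ← hsj w.1 w.2,
          C.one_lift (hsA z.1 z.2) (hsA w.1 w.2) (hsc z.1 z.2) (hsc w.1 w.2) he])
      (fun x hx w hw => by
        obtain ⟨a, ha, rfl⟩ := hmemss x hx
        obtain ⟨b, hb, rfl⟩ := hmemss w hw
        exact (show Commute (s a ha) (s b hb) from C.dbl.comm_Ah (hsA a ha) (hsA b hb)).map q)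
      (by simp only [hss, List.length_map, List.length_attach, List.length_cons] at hlen ⊢; omega) h2
    rw [List.map_eq_nil_iff, hss, List.map_eq_nil_iff, List.attach_eq_nil_iff] at h0
    subst h0
    rw [List.prod_singleton] at hprod
    subst hprod
    exact C.d_ne_one (isConj_one_left.1 hyc)

/-- Equal products of few points have the same points. -/
theorem Cover.same (C : Cover e hF h q δ d' τ c E j d) {l l' : List G} (hl : ∀ z ∈ l ++ l', C.IsPt z)
    (hnd : l.Nodup) (hnd' : l'.Nodup) (hlen : l.length + l'.length ≤ 6) (he : l.prod = l'.prod) :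
    ∀ z, z ∈ l ↔ z ∈ l' := by
  obtain ⟨L, h1, h2, h3, h4, h5⟩ := exists_relation hnd hnd'
    (fun a ha b hb => C.comm_A (hl a ha).1 (hl b hb).1) (fun a ha => C.sq_A (hl a ha).1) he
  exact h5 (C.short (fun z hz => hl z (h3 z hz)) h1 (h2.trans hlen) h4)

/-- A triple times the involution is another triple. -/
theorem Cover.other_triple (C : Cover e hF h q δ d' τ c E j d) {s t u : Cg} (hs : s ∈ C.dbl.Ah) (ht : t ∈ C.dbl.Ah)
    (hu : u ∈ C.dbl.Ah) (hs' : IsConj d (j s)) (ht' : IsConj d (j t)) (hu' : IsConj d (j u))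
    (ps : C.dbl.ctx.IsPt (q s)) (pt : C.dbl.ctx.IsPt (q t)) (pu : C.dbl.ctx.IsPt (q u))
    (hnd : [q s, q t, q u].Nodup) :
    ∃ a b k : G, C.IsPt a ∧ C.IsPt b ∧ C.IsPt k ∧ a ≠ b ∧ a ≠ k ∧ b ≠ k ∧
      a * b * k = j s * j t * j u * d := by
  obtain ⟨v, k0, l0, m0, Γ, Fr⟩ := C.frameX
  have hA0 : ∀ z ∈ [q s, q t, q u], z ∈ C.dbl.ctx.A0 := fun z hz => by
    simp only [List.mem_cons, List.not_mem_nil, or_false] at hz
    rcases hz with rfl | rfl | rfl <;> assumption
  have htri : IsTriple (conjugatesOf d') (q s * q t * q u) [q s, q t, q u] :=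
    ⟨hnd, rfl, fun z hz => by
      simp only [List.mem_cons, List.not_mem_nil, or_false] at hz
      rcases hz with rfl | rfl | rfl
      exacts [ps.2, pt.2, pu.2],
      fun a ha b hb => C.dbl.ctx.comm_A0 (hA0 a ha) (hA0 b hb), by simp [mul_assoc]⟩
  obtain ⟨z₀, hz₀, h2z⟩ := special_of_points C.set.typ
  obtain ⟨l₁, l₂, k1, k2, kne, -⟩ := C.set.cls.two_triples_points C.set.prim hz₀ h2z C.set.typ htri
  obtain ⟨l, hl, hne⟩ : ∃ l, IsTriple (conjugatesOf d') (q s * q t * q u) l ∧ ¬ ∀ x, x ∈ l ↔ x ∈ [q s, q t, q u] := by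
    by_contra hno
    push Not at hno
    exact kne fun x => (hno l₁ k1 x).trans (hno l₂ k2 x).symm
  obtain ⟨hn, hlen, hD, hcm, hp⟩ := hl
  -- its members lie in the plane subgroup
  have hlA : ∀ z ∈ l, C.dbl.ctx.IsPt z := fun z hz => by
    refine ⟨Fr.mem_of_commute Γ (hD z hz) fun w hwA hw => ?_, hD z hz⟩
    refine C.set.weak.commute_all_of_short hw hD hn hcm ?_ (by omega) z hz
    rw [hp]
    exact C.dbl.ctx.comm_A0 hwA (mul_mem (mul_mem ps.1 pt.1) pu.1)
  match l, hlen with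
  | [x, y, w], _ =>
    obtain ⟨a, haA, ha, haq⟩ := C.dbl.exists_lift C.as C.wc (hlA x (by simp))
    obtain ⟨b, hbA, hb, hbq⟩ := C.dbl.exists_lift C.as C.wc (hlA y (by simp))
    obtain ⟨k, hkA, hk, hkq⟩ := C.dbl.exists_lift C.as C.wc (hlA w (by simp))
    simp only [List.nodup_cons, List.mem_cons, List.not_mem_nil, or_false, not_or] at hn
    have hjne : ∀ {a b : Cg}, q a ≠ q b → j a ≠ j b := fun hne e0 => hne (congrArg q (C.as.inj e0))
    have hpts : ∀ {a : Cg}, a ∈ C.dbl.Ah → IsConj d (j a) → C.IsPt (j a) :=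
      fun ha hc => ⟨Subgroup.mem_map_of_mem j ha, hc⟩
    refine ⟨j a, j b, j k, hpts haA ha, hpts hbA hb, hpts hkA hk, hjne (by rw [haq, hbq]; exact hn.1.1),
      hjne (by rw [haq, hkq]; exact hn.1.2), hjne (by rw [hbq, hkq]; exact hn.2.1), ?_⟩
    have hq : q (a * b * k) = q (s * t * u) := by
      rw [map_mul, map_mul, map_mul, map_mul, haq, hbq, hkq, ← hp]
      simp [mul_assoc]
    rcases (C.dbl.ker ((s * t * u)⁻¹ * (a * b * k))).1 (by rw [map_mul, map_inv, hq, inv_mul_cancel]) with r | r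
    · exfalso
      have hs1 : s * t * u = a * b * k := inv_mul_eq_one.1 r
      have hsame := C.same (l := [j a, j b, j k]) (l' := [j s, j t, j u]) (fun z hz => by
          simp only [List.cons_append, List.nil_append, List.mem_cons, List.not_mem_nil, or_false] at hz
          rcases hz with rfl | rfl | rfl | rfl | rfl | rfl
          exacts [hpts haA ha, hpts hbA hb, hpts hkA hk, hpts hs hs', hpts ht ht', hpts hu hu'])
        (by
          simp only [List.nodup_cons, List.mem_cons, List.not_mem_nil, or_false, not_or, List.nodup_nil, and_true,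
            not_false_iff]
          exact ⟨⟨hjne (by rw [haq, hbq]; exact hn.1.1), hjne (by rw [haq, hkq]; exact hn.1.2)⟩,
            hjne (by rw [hbq, hkq]; exact hn.2.1)⟩)
        (by
          simp only [List.nodup_cons, List.mem_cons, List.not_mem_nil, or_false, not_or, List.nodup_nil, and_true,
            not_false_iff] at hnd ⊢
          exact ⟨⟨hjne hnd.1.1, hjne hnd.1.2⟩, hjne hnd.2⟩)
        (by simp) (by simp [← map_mul, ← mul_assoc, hs1])
      refine hne fun z => ?_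
      simp only [List.mem_cons, List.not_mem_nil, or_false] at hsame ⊢
      rw [← haq, ← hbq, ← hkq]
      constructor
      · rintro (rfl | rfl | rfl)
        · exact ((hsame (j a)).1 (Or.inl rfl)).imp (fun r => congrArg q (C.as.inj r))
            (Or.imp (fun r => congrArg q (C.as.inj r)) fun r => congrArg q (C.as.inj r))
        · exact ((hsame (j b)).1 (Or.inr (Or.inl rfl))).imp (fun r => congrArg q (C.as.inj r))
            (Or.imp (fun r => congrArg q (C.as.inj r)) fun r => congrArg q (C.as.inj r))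
        · exact ((hsame (j k)).1 (Or.inr (Or.inr rfl))).imp (fun r => congrArg q (C.as.inj r))
            (Or.imp (fun r => congrArg q (C.as.inj r)) fun r => congrArg q (C.as.inj r))
      · rintro (rfl | rfl | rfl)
        · exact ((hsame (j s)).2 (Or.inl rfl)).imp (fun r => congrArg q (C.as.inj r))
            (Or.imp (fun r => congrArg q (C.as.inj r)) fun r => congrArg q (C.as.inj r))
        · exact ((hsame (j t)).2 (Or.inr (Or.inl rfl))).imp (fun r => congrArg q (C.as.inj r))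
            (Or.imp (fun r => congrArg q (C.as.inj r)) fun r => congrArg q (C.as.inj r))
        · exact ((hsame (j u)).2 (Or.inr (Or.inr rfl))).imp (fun r => congrArg q (C.as.inj r))
            (Or.imp (fun r => congrArg q (C.as.inj r)) fun r => congrArg q (C.as.inj r))
    · rw [← C.as.image, ← r]
      simp only [map_mul, map_inv]
      group

/-- The involution's component: every involution is conjugate into the preimage. -/
theorem Cover.into_stab (C : Cover e hF h q δ d' τ c E j d) {D : Set G} {v k l m : ℕ} (Γ : Graph D v k l m)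
    (hD : D = conjugatesOf d) {t : G} (ht : t * t = 1) (hts : Reach D d (t * d * t⁻¹)) :
    ∃ g, Reach D d (g * d * g⁻¹) ∧ g * t * g⁻¹ ∈ C.dbl.Ah.map j := by
  have hj : ∀ s, j s ∈ stab Γ d := fun s => by
    show Reach D d (j s * d * (j s)⁻¹)
    rw [mul_inv_eq_iff_eq_mul.2 ((C.as.range _).1 ⟨s, rfl⟩)]
    exact Relation.ReflTransGen.refl
  have hds : d ∈ stab Γ d := C.as.image ▸ hj δ
  obtain ⟨g, hg1, hg2⟩ := C.wc
  have hgs : g ∈ stab Γ d := reach_commute (hD ▸ mem_conjugatesOf_self) (hD ▸ isConj_iff.2 ⟨g, rfl⟩)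
    ((C.as.range _).1 hg1).symm
  obtain ⟨j', hj'⟩ : ∃ j' : Cg →* ↥(stab Γ d), ∀ s, (j' s : G) = j s := ⟨j.codRestrict _ hj, fun _ => rfl⟩
  have hA : AsCent j' δ (⟨d, hds⟩ : ↥(stab Γ d)) := by
    refine ⟨fun a b hab => C.as.inj (by rw [← hj', ← hj', hab]), fun x => ?_, Subtype.ext ((hj' δ).trans C.as.image)⟩
    constructor
    · rintro ⟨s, rfl⟩
      exact Subtype.ext (by rw [Subgroup.coe_mul, Subgroup.coe_mul, hj']; exact (C.as.range _).1 ⟨s, rfl⟩)
    · intro hx
      obtain ⟨s, hs⟩ := (C.as.range x.1).2 (congrArg Subtype.val hx)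
      exact ⟨s, Subtype.ext ((hj' s).trans hs)⟩
  have hwc : ∃ g' : ↥(stab Γ d), g' * ⟨d, hds⟩ * g'⁻¹ ∈ j'.range ∧ g' * ⟨d, hds⟩ * g'⁻¹ ≠ ⟨d, hds⟩ := by
    refine ⟨⟨g, hgs⟩, ?_, fun e0 => hg2 (congrArg Subtype.val e0)⟩
    obtain ⟨s, hs⟩ := hg1
    exact ⟨s, Subtype.ext ((hj' s).trans hs)⟩
  obtain ⟨a, y, hy, hya⟩ := C.dbl.conj_into_G hA hwc (t := (⟨t, hts⟩ : ↥(stab Γ d))) (Subtype.ext ht)
  exact ⟨a.1, a.2, y, hy, ((hj' y).symm.trans (congrArg Subtype.val hya))⟩

/-- The preimage of the plane subgroup is a frame. -/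
theorem Cover.frame (C : Cover e hF h q δ d' τ c E j d) {v k l m : ℕ} (Γ : Graph (conjugatesOf d) v k l m) :
    Frame (conjugatesOf d) d (C.dbl.Ah.map j) := by
  obtain ⟨v', k', l', m', ΓX, FX⟩ := C.frameX
  obtain ⟨pts, hpts⟩ : ∃ P : Set G, P = {z | z ∈ C.dbl.Ah.map j ∧ IsConj d z} := ⟨_, rfl⟩
  have hcard : pts.ncard = 23 := hpts ▸ C.dbl.count C.as C.wc
  have hpick : ∀ S : Set G, S.ncard < 23 → ∃ z, C.IsPt z ∧ z ∉ S := fun S hS => by
    obtain ⟨z, hz, hzn⟩ := Set.exists_mem_notMem_of_ncard_lt_ncard (hS.trans_le hcard.ge) (Set.toFinite S)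
    exact ⟨z, by rw [hpts] at hz; exact hz, hzn⟩
  have hjd : ∀ {s : Cg}, C.dbl.ctx.IsPt (q s) → j s ≠ d := fun {s} hs e0 => by
    have h1 : q s = 1 := by rw [C.as.inj (e0.trans C.as.image.symm), C.q_δ]
    have h2 := C.set.cls.ts.1 (q s) hs.2
    rw [h1, orderOf_one] at h2
    omega
  refine ⟨mem_conjugatesOf_self, C.d_pt.1, fun x hx y hy => C.comm_A hx hy, fun x hx => C.sq_A hx,
    fun x hx hne => ?_, fun t ht hts => C.into_stab Γ rfl ht hts, ?_, fun p hp hall => ?_,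
    fun a haA b hbA k hkA ha hb hk hab hak hbk => ?_, ?_⟩
  · obtain ⟨y, hy, rfl⟩ := hx
    by_cases hq1 : q y = 1
    · rcases (C.dbl.ker y).1 hq1 with r | r
      · exact absurd (by rw [r, map_one]) hne
      · exact Or.inl (by rw [r, C.as.image]; exact mem_conjugatesOf_self)
    have hcases : ∀ {w : Cg}, q w = q y → j y = j w ∨ j y = j w * d := fun {w} hw => by
      rcases (C.dbl.ker (w⁻¹ * y)).1 (by rw [map_mul, map_inv, hw, inv_mul_cancel]) with r | r
      · exact Or.inl (by rw [inv_mul_eq_one.1 r])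
      · exact Or.inr (by rw [← C.as.image, ← map_mul, ← r, mul_inv_cancel_left])
    rcases FX.types (q y) hy hq1 with r | ⟨a, haA, b, hbA, ha, hb, hab, r⟩ |
      ⟨a, haA, b, hbA, k, hkA, ha, hb, hk, hab, hak, hbk, r⟩
    · obtain ⟨s, hs, hsc, hsq⟩ := C.dbl.exists_lift C.as C.wc ⟨hy, r⟩
      rcases hcases hsq with e0 | e0
      · exact Or.inl (e0 ▸ hsc)
      · exact Or.inr (Or.inl ⟨j s, Subgroup.mem_map_of_mem j hs, d, C.d_pt.1, hsc, mem_conjugatesOf_self,
          hjd (hsq ▸ ⟨hy, r⟩), e0⟩)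
    · obtain ⟨s, hs, hsc, hsq⟩ := C.dbl.exists_lift C.as C.wc ⟨haA, ha⟩
      obtain ⟨t, ht, htc, htq⟩ := C.dbl.exists_lift C.as C.wc ⟨hbA, hb⟩
      have hne' : j s ≠ j t := fun e0 => hab (by rw [← hsq, ← htq, C.as.inj e0])
      rcases hcases (w := s * t) (by rw [map_mul, hsq, htq, r]) with e0 | e0 <;> rw [map_mul] at e0
      · exact Or.inr (Or.inl ⟨_, Subgroup.mem_map_of_mem j hs, _, Subgroup.mem_map_of_mem j ht, hsc, htc, hne', e0⟩)
      · exact Or.inr (Or.inr ⟨_, Subgroup.mem_map_of_mem j hs, _, Subgroup.mem_map_of_mem j ht, d, C.d_pt.1, hsc, htc,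
          mem_conjugatesOf_self, hne', hjd (hsq ▸ ⟨haA, ha⟩), hjd (htq ▸ ⟨hbA, hb⟩), e0⟩)
    · obtain ⟨s, hs, hsc, hsq⟩ := C.dbl.exists_lift C.as C.wc ⟨haA, ha⟩
      obtain ⟨t, ht, htc, htq⟩ := C.dbl.exists_lift C.as C.wc ⟨hbA, hb⟩
      obtain ⟨u, hu, huc, huq⟩ := C.dbl.exists_lift C.as C.wc ⟨hkA, hk⟩
      rcases hcases (w := s * t * u) (by rw [map_mul, map_mul, hsq, htq, huq, r]) with e0 | e0 <;>
        rw [map_mul, map_mul] at e0
      · exact Or.inr (Or.inr ⟨_, Subgroup.mem_map_of_mem j hs, _, Subgroup.mem_map_of_mem j ht, _,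
          Subgroup.mem_map_of_mem j hu, hsc, htc, huc, fun e1 => hab (by rw [← hsq, ← htq, C.as.inj e1]),
          fun e1 => hak (by rw [← hsq, ← huq, C.as.inj e1]), fun e1 => hbk (by rw [← htq, ← huq, C.as.inj e1]), e0⟩)
      · obtain ⟨a', b', k', pa, pb, pk, h1, h2, h3, he⟩ := C.other_triple hs ht hu hsc htc huc
          (hsq ▸ ⟨haA, ha⟩) (htq ▸ ⟨hbA, hb⟩) (huq ▸ ⟨hkA, hk⟩) (by simp [hsq, htq, huq, hab, hak, hbk])
        exact Or.inr (Or.inr ⟨_, pa.1, _, pb.1, _, pk.1, pa.2, pb.2, pk.2, h1, h2, h3, e0.trans he.symm⟩)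
  · obtain ⟨z₁, p₁, n₁⟩ := hpick {d} (by simp)
    obtain ⟨z₂, p₂, n₂⟩ := hpick {d, z₁} ((Set.ncard_insert_le _ _).trans_lt (by simp))
    obtain ⟨z₃, p₃, n₃⟩ := hpick {d, z₁, z₂} ((Set.ncard_insert_le _ _).trans_lt
      (Nat.lt_of_le_of_lt (Nat.add_le_add_right (Set.ncard_insert_le _ _) 1) (by simp)))
    simp only [Set.mem_insert_iff, Set.mem_singleton_iff, not_or] at n₁ n₂ n₃
    obtain ⟨s, hs, hsc, rfl, ps⟩ := C.over p₁ n₁
    obtain ⟨t, ht, htc, rfl, pt⟩ := C.over p₂ n₂.1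
    obtain ⟨u, hu, huc, rfl, pu⟩ := C.over p₃ n₃.1
    obtain ⟨a, b, k, pa, pb, pk, -, -, -, he⟩ := C.other_triple hs ht hu hsc htc huc ps pt pu (by
      simp only [List.nodup_cons, List.mem_cons, List.not_mem_nil, or_false, not_or, List.nodup_nil, and_true,
        not_false_iff]
      exact ⟨⟨fun e0 => n₂.2 (congrArg j (C.one_lift hs ht hsc htc e0).symm),
        fun e0 => n₃.2.1 (congrArg j (C.one_lift hs hu hsc huc e0).symm)⟩,
        fun e0 => n₃.2.2 (congrArg j (C.one_lift ht hu htc huc e0).symm)⟩)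
    refine ⟨[j s, j t, j u, d, k, b, a], fun z hz => ?_, ⟨3, rfl⟩, ?_⟩
    · simp only [List.mem_cons, List.not_mem_nil, or_false] at hz
      rcases hz with rfl | rfl | rfl | rfl | rfl | rfl | rfl
      exacts [p₁, p₂, p₃, C.d_pt, pk, pb, pa]
    · calc [j s, j t, j u, d, k, b, a].prod = j s * j t * j u * d * (k * (b * a)) := by simp [mul_assoc]
        _ = a * b * k * (k * (b * a)) := by rw [he]
        _ = a * (b * (k * k) * b) * a := by group
        _ = 1 := by rw [C.sq_A pk.1, mul_one, C.sq_A pb.1, mul_one, C.sq_A pa.1]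
  · obtain ⟨s, rfl⟩ := (C.as.range p).2 (hall d C.d_pt.1).symm.eq
    rcases eq_or_ne (j s) d with e0 | hsd
    · exact e0 ▸ C.d_pt.1
    have hscS : s ∈ cS j d := ⟨hp, hsd, hall d C.d_pt.1⟩
    have h1 := FX.maxi (q s) (C.cS_img hscS) fun x hx => by
      obtain ⟨a, rfl⟩ := C.dbl.surj x
      exact (C.comm_j.1 (hall (j a) (Subgroup.mem_map_of_mem j hx))).map q
    exact Subgroup.mem_map_of_mem j h1
  · obtain ⟨y, py, hy⟩ := hpick {a, b, k} ((Set.ncard_insert_le _ _).trans_lt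
      (Nat.lt_of_le_of_lt (Nat.add_le_add_right (Set.ncard_insert_le _ _) 1) (by simp)))
    simp only [Set.mem_insert_iff, Set.mem_singleton_iff, not_or] at hy
    refine ⟨y, py.1, py.2, fun p hpA p' hp'A hp hp' hpp he => ?_⟩
    have hsame := C.same (l := [a, b, k, y]) (l' := [p, p']) (fun z hz => by
        simp only [List.cons_append, List.nil_append, List.mem_cons, List.not_mem_nil, or_false] at hz
        rcases hz with rfl | rfl | rfl | rfl | rfl | rfl
        exacts [⟨haA, ha⟩, ⟨hbA, hb⟩, ⟨hkA, hk⟩, py, ⟨hpA, hp⟩, ⟨hp'A, hp'⟩])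
      (by simp [hab, hak, hbk, Ne.symm hy.1, Ne.symm hy.2.1, Ne.symm hy.2.2]) (by simp [hpp]) (by simp)
      (by simp [← mul_assoc, he])
    simp only [List.mem_cons, List.not_mem_nil, or_false] at hsame
    rcases (hsame a).1 (Or.inl rfl) with ea | ea <;> rcases (hsame b).1 (Or.inr (Or.inl rfl)) with eb | eb <;>
      rcases (hsame k).1 (Or.inr (Or.inr (Or.inl rfl))) with ek | ek
    all_goals first | exact hab (ea.trans eb.symm) | exact hak (ea.trans ek.symm) | exact hbk (eb.trans ek.symm)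
  · obtain ⟨z, pz, hz⟩ := hpick {d} (by simp)
    exact ⟨z, pz.1, pz.2, hz⟩

end CfsgLib.KnownB.TypeCentral
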