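import Cfsg.Agent.Lib.KnownB.TypeCentral.Global
import Cfsg.Agent.Lib.ThreeTransp.FischerPrim
import Cfsg.Agent.Lib.Components.Basic

/-!
The members generate the group and are permuted primitively.
-/

set_option autoImplicit false

namespace CfsgLib.KnownB.TypeCentral

open Cfsg CfsgLib.ThreeTransp

universe u

variable {G : Type u} [Group G] [Finite G] {D : Set G} {v k l m : ℕ} {d : G} {A : Subgroup G}

/-- What is used of the centraliser of the base member. -/
structure Cent (D : Set G) (d : G) : Prop where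
  qs : Cfsg.IsQuasisimple ↥(Subgroup.centralizer ({d} : Set G))
  cen : ∀ x, Commute x d → (∀ y, Commute y d → Commute y x) → x = 1 ∨ x = d
  gen : Subgroup.closure (nb D d) = Subgroup.centralizer ({d} : Set G)

theorem Graph.step (Γ : Graph D v k l m) {x y : G} (hx : x ∈ D) (hy : y ∈ nb D x) :
    ∃ h ∈ Subgroup.closure D, h * x * h⁻¹ = y := by
  obtain ⟨w, hwx, hwy⟩ : ∃ w, w ∈ nb D x ∧ w ∈ nb D y := by
    have h1 := (Γ.loc x hx).c2 y hy
    have := Γ.par.lk
    obtain ⟨w, h2, h3⟩ := Set.nonempty_of_ncard_ne_zero (s := nb D x ∩ nb D y) (by omega)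
    exact ⟨w, h2, h3⟩
  have hxw := nb_swap hx hwx
  have hyw := nb_swap hy.1 hwy
  obtain ⟨z, hz, hzx, hzy⟩ : ∃ z, z ∈ nb D w ∧ ¬ Commute x z ∧ ¬ Commute y z := by
    by_contra hno
    push Not at hno
    have hsub : nb D w ⊆ insert x (nb D w ∩ nb D x) ∪ insert y (nb D w ∩ nb D y) := fun z hz => by
      by_cases hc : Commute x z
      · exact Or.inl ((eq_or_ne z x).imp id fun hne => ⟨hz, hz.1, hne, hc⟩)
      · exact Or.inr ((eq_or_ne z y).imp id fun hne => ⟨hz, hz.1, hne, hno z hz hc⟩)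
    have h1 := (Set.ncard_le_ncard hsub (Set.toFinite _)).trans ((Set.ncard_union_le _ _).trans
      (Nat.add_le_add (Set.ncard_insert_le _ _) (Set.ncard_insert_le _ _)))
    rw [(Γ.loc w hwx.1).c1, (Γ.loc w hwx.1).c2 x hxw, (Γ.loc w hwx.1).c2 y hyw] at h1
    have := Γ.par.kv
    omega
  have key : ∀ {a b}, a ∈ nb D w → b ∈ nb D w → ¬ Commute a b → a * b * a * (a * b)⁻¹ = b := fun {a b} ha hb hn => by
    rw [(Γ.loc w hwx.1).three a ha b hb hn]
    group
  refine ⟨z * y * (x * z), mul_mem (mul_mem (Subgroup.subset_closure hz.1) (Subgroup.subset_closure hy.1))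
    (mul_mem (Subgroup.subset_closure hx) (Subgroup.subset_closure hz.1)), ?_⟩
  rw [show z * y * (x * z) * x * (z * y * (x * z))⁻¹ = z * y * (x * z * x * (x * z)⁻¹) * (z * y)⁻¹ by group,
    key hxw hz hzx, key hz hyw fun e => hzy e.symm]

/-- The members generate. -/
theorem Frame.gen (Γ : Graph D v k l m) (F : Frame D d A) (K : Cent D d) : Subgroup.closure D = ⊤ := by
  have hC : Subgroup.centralizer ({d} : Set G) ≤ Subgroup.closure D :=
    K.gen ▸ Subgroup.closure_mono fun y hy => hy.1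
  have key : ∀ {x}, Reach D d x → ∃ h ∈ Subgroup.closure D, h * d * h⁻¹ = x := by
    intro x hx
    induction hx with
    | refl => exact ⟨1, one_mem _, by group⟩
    | tail _ hs ih =>
      obtain ⟨h, hh, rfl⟩ := ih
      obtain ⟨h', hh', e⟩ := Γ.step hs.1 hs.2
      exact ⟨h' * h, mul_mem hh' hh, by rw [← e]; group⟩
  refine eq_top_iff.2 fun g _ => ?_
  obtain ⟨h, hh, he⟩ := key (F.connected Γ (Γ.conj g d F.base))
  have h1 : h⁻¹ * g ∈ Subgroup.closure D := hC (Subgroup.mem_centralizer_singleton_iff.2 (mul_inv_eq_iff_eq_mul.1 (by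
    rw [show h⁻¹ * g * d * (h⁻¹ * g)⁻¹ = h⁻¹ * (g * d * g⁻¹) * h by group, ← he]; group)))
  simpa using mul_mem hh h1

theorem Graph.exists_ncomm (Γ : Graph D v k l m) {a : G} (ha : a ∈ D) : ∃ c ∈ D, ¬ Commute a c := by
  by_contra hno
  push Not at hno
  have h1 := (Γ.loc a ha).c1
  have := Γ.par.kv
  obtain ⟨x, hx⟩ := Set.nonempty_of_ncard_ne_zero (s := nb D a) (by omega)
  have hsub : nb D x ⊆ insert a (nb D a ∩ nb D x) := fun y hy =>
    (eq_or_ne y a).imp id fun hne => ⟨⟨hy.1, hne, hno y hy.1⟩, hy⟩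
  have h2 := (Set.ncard_le_ncard hsub (Set.toFinite _)).trans (Set.ncard_insert_le _ _)
  rw [(Γ.loc x hx.1).c1, (Γ.loc a ha).c2 x hx] at h2
  omega

/-- The centre is trivial. -/
theorem Frame.center (Γ : Graph D v k l m) (F : Frame D d A) (K : Cent D d) : Subgroup.center G = ⊥ := by
  refine Subgroup.eq_bot_iff_forall _ |>.2 fun z hz => ?_
  have h1 := fun g => (Subgroup.mem_center_iff.1 hz g : g * z = z * g)
  refine (K.cen z (h1 d).symm fun y _ => h1 y).resolve_right fun e => ?_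
  obtain ⟨c, -, hn⟩ := Γ.exists_ncomm F.base
  exact hn (e ▸ (h1 c).symm)

/-- A normal p-subgroup meets the centraliser trivially, if the base is outside. -/
theorem Frame.normal_inter (K : Cent D d) {N : Subgroup G} [hN : N.Normal] (hd : d ∉ N) {x : G} (hx : x ∈ N)
    (hc : Commute x d) : x = 1 := by
  rcases CfsgLib.Components.quasisimple_normal_eq_top_or_le_center K.qs
    (N.subgroupOf (Subgroup.centralizer ({d} : Set G))) with r | r
  · have h1 : (⟨d, Subgroup.mem_centralizer_singleton_iff.2 rfl⟩ : ↥(Subgroup.centralizer ({d} : Set G))) ∈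
        N.subgroupOf _ := r ▸ Subgroup.mem_top _
    exact absurd h1 hd
  · have h1 := r (show (⟨x, Subgroup.mem_centralizer_singleton_iff.2 hc⟩ : ↥(Subgroup.centralizer ({d} : Set G))) ∈
      N.subgroupOf _ from hx)
    refine (K.cen x hc fun y hy => ?_).resolve_right fun e => hd (e ▸ hx)
    exact congrArg Subtype.val (Subgroup.mem_center_iff.1 h1 ⟨y, Subgroup.mem_centralizer_singleton_iff.2 hy⟩)

theorem Frame.pCore_two (Γ : Graph D v k l m) (F : Frame D d A) (K : Cent D d) : pCore 2 G = ⊥ := by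
  haveI := Fact.mk Nat.prime_two
  obtain ⟨N, hN⟩ : ∃ N, N = pCore 2 G := ⟨_, rfl⟩
  have hp : IsPGroup 2 N := hN ▸ CfsgLib.Base.isPGroup_pCore 2 G
  haveI hNn : N.Normal := hN ▸ inferInstance
  rw [← hN]
  by_cases hdN : d ∈ N
  · exfalso
    have htop : N = ⊤ := eq_top_iff.2 ((F.gen Γ K) ▸ (Subgroup.closure_le _).2 fun x hx => by
      obtain ⟨g, rfl⟩ := Γ.trans d F.base x hx
      exact hNn.conj_mem d hdN g)
    obtain ⟨c, hc, hn⟩ := Γ.exists_ncomm F.base
    obtain ⟨j, hj⟩ := hp ⟨d * c, htop ▸ Subgroup.mem_top _⟩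
    have hj' : (d * c) ^ 2 ^ j = 1 := congrArg Subtype.val hj
    rcases (F.ts Γ).2 d F.base c hc with r | r
    · refine hn ?_
      have h2 : d * c = (d * c)⁻¹ := eq_inv_of_mul_eq_one_left (by rw [← pow_two, r])
      rw [_root_.mul_inv_rev, inv_eq_of_mul_eq_one_right (Γ.sq c hc), inv_eq_of_mul_eq_one_right (Γ.sq d F.base)] at h2
      exact h2
    · have h1 := Nat.dvd_gcd (orderOf_dvd_of_pow_eq_one hj') (orderOf_dvd_of_pow_eq_one r)
      rw [Nat.Coprime.gcd_eq_one (Nat.Coprime.pow_left j (by norm_num)), Nat.dvd_one, orderOf_eq_one_iff,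
        mul_eq_one_iff_inv_eq, inv_eq_of_mul_eq_one_right (Γ.sq d F.base)] at h1
      exact hn (h1 ▸ Commute.refl d)
  by_contra hbot
  obtain ⟨j, hj⟩ := IsPGroup.iff_card.1 hp
  haveI := Fintype.ofFinite N
  have hdi : d⁻¹ = d := inv_eq_of_mul_eq_one_right (Γ.sq d F.base)
  let f : Equiv.Perm N := Function.Involutive.toPerm (fun x => ⟨d * x.1 * d⁻¹, hNn.conj_mem _ x.2 d⟩) fun x => Subtype.ext (by
    show d * (d * x.1 * d⁻¹) * d⁻¹ = x.1
    rw [show d * (d * x.1 * d⁻¹) * d⁻¹ = (d * d) * x.1 * (d * d)⁻¹ by group, Γ.sq d F.base]; group)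
  have h2 : 2 ∣ Fintype.card N := by
    rw [← Nat.card_eq_fintype_card, hj]
    refine dvd_pow_self 2 fun e0 => hbot (Subgroup.eq_bot_of_card_le _ ?_)
    rw [hj, e0, pow_zero]
  obtain ⟨x, hx, hx1⟩ := Equiv.Perm.exists_fixed_point_of_prime' (p := 2) (n := 1) h2 (σ := f)
    (Equiv.ext fun x => by rw [pow_one, pow_two]; exact f.apply_symm_apply x) (a := 1) (Subtype.ext (by
      show d * (1 : G) * d⁻¹ = 1
      group))
  exact hx1 (Subtype.ext (Frame.normal_inter K hdN x.2 (mul_inv_eq_iff_eq_mul.1 (congrArg Subtype.val hx)).symm))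

theorem Frame.pCore_three (Γ : Graph D v k l m) (F : Frame D d A) (K : Cent D d) : pCore 3 G = ⊥ := by
  haveI := Fact.mk Nat.prime_three
  obtain ⟨N, hN⟩ : ∃ N, N = pCore 3 G := ⟨_, rfl⟩
  have hp : IsPGroup 3 N := hN ▸ CfsgLib.Base.isPGroup_pCore 3 G
  haveI hNn : N.Normal := hN ▸ inferInstance
  rw [← hN]
  have hodd : ∀ x ∈ N, x * x = 1 → x = 1 := fun x hx h2 => by
    obtain ⟨j, hj⟩ := hp ⟨x, hx⟩
    have hj' : x ^ 3 ^ j = 1 := congrArg Subtype.val hj
    have h1 := Nat.dvd_gcd (orderOf_dvd_of_pow_eq_one hj') (orderOf_dvd_of_pow_eq_one (show x ^ 2 = 1 by rw [pow_two, h2]))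
    rwa [Nat.Coprime.gcd_eq_one (Nat.Coprime.pow_left j (by norm_num)), Nat.dvd_one, orderOf_eq_one_iff] at h1
  have hdN : d ∉ N := fun hd => Γ.one (hodd d hd (Γ.sq d F.base) ▸ F.base)
  have hinv : ∀ x ∈ D, ∀ n ∈ N, x * n * x⁻¹ = n⁻¹ := by
    intro x hx
    obtain ⟨g, rfl⟩ := Γ.trans d F.base x hx
    intro n hn
    have hdd : ∀ n ∈ N, d * n * d⁻¹ = n⁻¹ := by
      intro n hn
      haveI := Fintype.ofFinite N
      have hinj : Function.Injective fun u : N => (⟨u.1⁻¹ * (d * u.1 * d⁻¹), mul_mem (inv_mem u.2) (hNn.conj_mem _ u.2 d)⟩ : N) := by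
        intro u w e
        have e' : u.1⁻¹ * (d * u.1 * d⁻¹) = w.1⁻¹ * (d * w.1 * d⁻¹) := congrArg Subtype.val e
        refine Subtype.ext (mul_inv_eq_one.1 (Frame.normal_inter K hdN (mul_mem w.2 (inv_mem u.2)) ?_)).symm
        refine (mul_inv_eq_iff_eq_mul.1 ?_).symm
        calc d * (w.1 * u.1⁻¹) * d⁻¹ = d * w.1 * d⁻¹ * (d * u.1 * d⁻¹)⁻¹ := by group
          _ = w.1 * (w.1⁻¹ * (d * w.1 * d⁻¹)) * (u.1 * (u.1⁻¹ * (d * u.1 * d⁻¹)))⁻¹ := by group
          _ = w.1 * u.1⁻¹ := by rw [← e']; group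
      obtain ⟨u, hu⟩ := (Finite.injective_iff_surjective.1 hinj) ⟨n, hn⟩
      have hu' : u.1⁻¹ * (d * u.1 * d⁻¹) = n := congrArg Subtype.val hu
      rw [← hu', show d * (u.1⁻¹ * (d * u.1 * d⁻¹)) * d⁻¹ = (d * u.1 * d⁻¹)⁻¹ * ((d * d) * u.1 * (d * d)⁻¹) by group,
        Γ.sq d F.base]
      group
    have h1 := hdd (g⁻¹ * n * g) (by simpa using hNn.conj_mem n hn g⁻¹)
    calc g * d * g⁻¹ * n * (g * d * g⁻¹)⁻¹ = g * (d * (g⁻¹ * n * g) * d⁻¹) * g⁻¹ := by group
      _ = n⁻¹ := by rw [h1]; group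
  have hC : ∀ g ∈ Subgroup.closure (nb D d),
      (∀ n ∈ N, g * n * g⁻¹ = n) ∨ ∀ n ∈ N, g * n * g⁻¹ = n⁻¹ := by
    intro g hg
    induction hg using Subgroup.closure_induction with
    | mem x hx => exact Or.inr (hinv x hx.1)
    | one => exact Or.inl fun n _ => by group
    | mul x y _ _ ihx ihy =>
      rcases ihx with r | r <;> rcases ihy with s | s
      · exact Or.inl fun n hn => by rw [show x * y * n * (x * y)⁻¹ = x * (y * n * y⁻¹) * x⁻¹ by group, s n hn, r n hn]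
      · exact Or.inr fun n hn => by
          rw [show x * y * n * (x * y)⁻¹ = x * (y * n * y⁻¹) * x⁻¹ by group, s n hn, r n⁻¹ (inv_mem hn)]
      · exact Or.inr fun n hn => by rw [show x * y * n * (x * y)⁻¹ = x * (y * n * y⁻¹) * x⁻¹ by group, s n hn, r n hn]
      · exact Or.inl fun n hn => by
          rw [show x * y * n * (x * y)⁻¹ = x * (y * n * y⁻¹) * x⁻¹ by group, s n hn, r n⁻¹ (inv_mem hn), inv_inv]
    | inv x _ ihx =>
      refine ihx.imp (fun r n hn => ?_) fun r n hn => ?_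
      · conv_lhs => rw [← r n hn]
        group
      · have h1 := congrArg (fun z => x⁻¹ * z * x) (r n⁻¹ (inv_mem hn))
        simp only [inv_inv] at h1
        rw [inv_inv, ← h1]; group
  obtain ⟨Cd, hCd⟩ : ∃ Cd : Subgroup ↥(Subgroup.centralizer ({d} : Set G)),
      Cd = (Subgroup.centralizer (N : Set G)).subgroupOf _ := ⟨_, rfl⟩
  have hle : commutator ↥(Subgroup.centralizer ({d} : Set G)) ≤ Cd := by
    rw [commutator_def, Subgroup.commutator_le]
    intro a _ b _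
    rw [hCd, Subgroup.mem_subgroupOf, Subgroup.mem_centralizer_iff]
    intro n hn
    have hn : n ∈ N := hn
    have key : ∀ g ∈ Subgroup.centralizer ({d} : Set G), ∃ s : Bool, ∀ n ∈ N, g * n * g⁻¹ = if s then n else n⁻¹ := by
      intro g hg
      rcases hC g (K.gen.symm ▸ hg) with r | r
      · exact ⟨true, fun n hn => r n hn⟩
      · exact ⟨false, fun n hn => r n hn⟩
    obtain ⟨s, hs⟩ := key _ a.2
    obtain ⟨s', hs'⟩ := key _ b.2
    obtain ⟨t, ht⟩ := key _ (inv_mem a.2)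
    obtain ⟨t', ht'⟩ := key _ (inv_mem b.2)
    have hts : ∀ n ∈ N, (if t then (if s then n else n⁻¹) else (if s then n else n⁻¹)⁻¹) = n := fun n hn => by
      have h1 := ht _ (hNn.conj_mem n hn a.1)
      rw [hs n hn, show a.1⁻¹ * (if s then n else n⁻¹) * a.1⁻¹⁻¹ = n by rw [← hs n hn]; group] at h1
      exact h1.symm
    have hts' : ∀ n ∈ N, (if t' then (if s' then n else n⁻¹) else (if s' then n else n⁻¹)⁻¹) = n := fun n hn => by
      have h1 := ht' _ (hNn.conj_mem n hn b.1)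
      rw [hs' n hn, show b.1⁻¹ * (if s' then n else n⁻¹) * b.1⁻¹⁻¹ = n by rw [← hs' n hn]; group] at h1
      exact h1.symm
    have h3 : (a.1 * b.1 * a.1⁻¹ * b.1⁻¹) * n * (a.1 * b.1 * a.1⁻¹ * b.1⁻¹)⁻¹ = n := by
      rw [show (a.1 * b.1 * a.1⁻¹ * b.1⁻¹) * n * (a.1 * b.1 * a.1⁻¹ * b.1⁻¹)⁻¹ =
        a.1 * (b.1 * (a.1⁻¹ * (b.1⁻¹ * n * b.1⁻¹⁻¹) * a.1⁻¹⁻¹) * b.1⁻¹) * a.1⁻¹ by group]
      rw [ht' n hn, ht _ (by split <;> [exact hn; exact inv_mem hn]), hs' _ (by split <;> split <;> simp [hn]),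
        hs _ (by split <;> split <;> split <;> simp [hn])]
      have e1 := hts n hn
      have e2 := hts' n hn
      revert e1 e2
      cases s <;> cases s' <;> cases t <;> cases t' <;> simp
    rw [commutatorElement_def, Subgroup.coe_mul, Subgroup.coe_mul, Subgroup.coe_mul, Subgroup.coe_inv, Subgroup.coe_inv]
    exact (mul_inv_eq_iff_eq_mul.1 h3).symm
  haveI := K.qs.1
  rw [Group.IsPerfect.commutator_eq_top] at hle
  refine (Subgroup.eq_bot_iff_forall _).2 fun n hn => hodd n hn ?_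
  have h1 : d ∈ Subgroup.centralizer (N : Set G) := by
    have h2 := hle (Subgroup.mem_top (⟨d, Subgroup.mem_centralizer_singleton_iff.2 rfl⟩ : ↥(Subgroup.centralizer ({d} : Set G))))
    rw [hCd] at h2
    exact h2
  have h2 := hinv d F.base n hn
  rw [← Subgroup.mem_centralizer_iff.1 h1 n hn, mul_inv_cancel_right] at h2
  conv_lhs => arg 2; rw [h2]
  exact mul_inv_cancel n

/-- The members form a primitive class of three-transpositions. -/
theorem Frame.prim (Γ : Graph D v k l m) (F : Frame D d A) (K : Cent D d) :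
    TClass D ∧ IsPrimitiveUnderConj D := by
  obtain ⟨b, hbA, hb, hne⟩ := F.second
  have hC : TClass D := ⟨F.ts Γ, Γ.conj, F.gen Γ K, Γ.trans, d, F.base, b, hb, hne.symm⟩
  refine ⟨hC, ((hC.simple_iff_primitive (F.center Γ K) ⟨d, F.base, b, hb, hne.symm, F.comm d F.mem b hbA⟩).2).2
    ⟨F.pCore_two Γ K, F.pCore_three Γ K, (connected_iff_creach ⟨d, F.base⟩).2 fun x hx y hy => ?_⟩⟩
  exact Relation.ReflTransGen.mono (fun p q hs => ⟨hs.1, hs.2.1, hs.2.2.2⟩) _ _
    ((F.connected Γ hx).symm.trans (F.connected Γ hy))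

end CfsgLib.KnownB.TypeCentral
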