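import Cfsg.Agent.Lib.KnownB.TypeCentral.Graph
import Cfsg.Agent.Lib.KnownB.Fi22Double.Class23
import Cfsg.Agent.Lib.KnownB.TypeM22.Tuples
import Cfsg.Agent.Lib.Components.Basic

/-!
The conjugates of an involution commuting with it, when the centraliser is a double cover of a group of
type M(22): they are one lift of each transposition.
-/

set_option autoImplicit false
set_option maxRecDepth 20000

noncomputable section

namespace CfsgLib.KnownB.TypeCentral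

open CfsgLib.Classical.Unitary CfsgLib.Spor CfsgLib.KnownB.U62Thompson CfsgLib.KnownB.Fi22Double
  CfsgLib.ThreeTransp CfsgLib.KnownB.TypeM22

universe u

variable {F : Type} [Field F] {e : QField →+* F} {σ : F →+* F} [Finite F] {hF : Nat.card F = 2 ^ 2}
  {h : UFrob σ 2} {Cg : Type u} [Group Cg] [Finite Cg] {X : Type u} [Group X] [Finite X]
  {q : Cg →* X} {δ : Cg} {d' : X} {τ : ↥(Subgroup.centralizer ({d'} : Set X)) →* Cfsg.PSU 6 F 2} {c : ℕ}
  {E : ℕ → ↥((Subgroup.centralizer ({d'} : Set X)).comap q)}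
  {G : Type u} [Group G] [Finite G] {j : Cg →* G} {d : G}

/-- The hypotheses on the involution and the double cover. -/
structure Cover (e : QField →+* F) (hF : Nat.card F = 2 ^ 2) (h : UFrob σ 2) (q : Cg →* X) (δ : Cg) (d' : X)
    (τ : ↥(Subgroup.centralizer ({d'} : Set X)) →* Cfsg.PSU 6 F 2) (c : ℕ)
    (E : ℕ → ↥((Subgroup.centralizer ({d'} : Set X)).comap q)) (j : Cg →* G) (d : G) : Prop where
  dbl : Dbl e hF h q δ d' τ c E
  as : AsCent j δ d
  wc : ∃ g : G, g * d * g⁻¹ ∈ j.range ∧ g * d * g⁻¹ ≠ d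
  set : TypeM22.Setting (conjugatesOf d')

/-- the lifts that are conjugates -/
def cS (j : Cg →* G) (d : G) : Set Cg := {s | j s ∈ nb (conjugatesOf d) d}

omit [Finite Cg] [Finite X] [Finite G] in
theorem Cover.d_sq (C : Cover e hF h q δ d' τ c E j d) : d * d = 1 := by
  rw [← C.as.image, ← map_mul, C.dbl.sq_δ, map_one]

omit [Finite Cg] [Finite X] [Finite G] in
theorem Cover.d_ne_one (C : Cover e hF h q δ d' τ c E j d) : d ≠ 1 := fun e0 => by
  have h1 : δ = 1 := C.as.inj (by rw [C.as.image, e0, map_one])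
  have h2 := C.dbl.ord
  rw [h1, orderOf_one] at h2
  omega

omit [Finite Cg] [Finite X] [Finite G] in
theorem Cover.conj_sq (C : Cover e hF h q δ d' τ c E j d) {x : G} (hx : IsConj d x) : x * x = 1 := by
  obtain ⟨g, rfl⟩ := isConj_iff.1 hx
  rw [show g * d * g⁻¹ * (g * d * g⁻¹) = g * (d * d) * g⁻¹ by group, C.d_sq]
  group

omit [Finite Cg] [Finite X] [Finite G] in
theorem Cover.cS_sq (C : Cover e hF h q δ d' τ c E j d) {s : Cg} (hs : s ∈ cS j d) : s * s = 1 :=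
  C.as.inj (by rw [map_mul, map_one, C.conj_sq hs.1])

omit [Finite Cg] [Finite X] [Finite G] in
theorem Cover.mem_cS (C : Cover e hF h q δ d' τ c E j d) {y : G} (hy : y ∈ nb (conjugatesOf d) d) :
    ∃ s, s ∈ cS j d ∧ j s = y := by
  obtain ⟨s, rfl⟩ := (C.as.range y).2 hy.2.2.symm.eq
  exact ⟨s, hy, rfl⟩

omit [Finite Cg] [Finite X] [Finite G] in
theorem Cover.conj_cS (C : Cover e hF h q δ d' τ c E j d) {s : Cg} (hs : s ∈ cS j d) (a : Cg) :
    a * s * a⁻¹ ∈ cS j d := by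
  obtain ⟨h1, h2, -⟩ := hs
  refine ⟨?_, fun e0 => h2 ?_, ((C.as.range _).1 ⟨a * s * a⁻¹, rfl⟩).symm⟩
  · rw [map_mul, map_mul, map_inv]
    exact (show IsConj d (j s) from h1).trans (isConj_iff.2 ⟨j a, rfl⟩)
  · rw [map_mul, map_mul, map_inv, mul_inv_eq_iff_eq_mul, ← (C.as.range _).1 ⟨a, rfl⟩] at e0
    exact mul_left_cancel e0

omit [Finite Cg] [Finite X] [Finite G] in
theorem Cover.q_δ (C : Cover e hF h q δ d' τ c E j d) : q δ = 1 := (C.dbl.ker δ).2 (Or.inr rfl)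

omit [Finite Cg] [Finite X] [Finite G] in
theorem Cover.δ_mem (C : Cover e hF h q δ d' τ c E j d) : δ ∈ C.dbl.Ah :=
  show q δ ∈ C.dbl.ctx.A0 from C.q_δ ▸ one_mem _

/-- One lift of each point is a conjugate. -/
theorem Cover.one_lift (C : Cover e hF h q δ d' τ c E j d) {y z : Cg} (hy : y ∈ C.dbl.Ah) (hz : z ∈ C.dbl.Ah)
    (hyc : IsConj d (j y)) (hzc : IsConj d (j z)) (he : q y = q z) : y = z := by
  obtain ⟨Ω, hΩ⟩ : ∃ Ω : Set Cg, Ω = {y | y ∈ C.dbl.Ah ∧ IsConj d (j y)} := ⟨_, rfl⟩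
  have hcard : Ω.ncard = 23 := by
    rw [← C.dbl.count C.as C.wc, ← Set.ncard_image_of_injective Ω C.as.inj, hΩ]
    congr 1
    ext x
    constructor
    · rintro ⟨s, ⟨hs, hc⟩, rfl⟩
      exact ⟨Subgroup.mem_map_of_mem j hs, hc⟩
    · rintro ⟨⟨s, hs, rfl⟩, hc⟩
      exact ⟨s, ⟨hs, hc⟩, rfl⟩
  have himg : q '' Ω = insert 1 {x | C.dbl.ctx.IsPt x} := by
    ext x
    constructor
    · rintro ⟨s, hs, rfl⟩
      rw [hΩ] at hs
      rcases C.dbl.pt_or_eq C.as hs.1 hs.2 with r | r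
      · exact Or.inl (r ▸ C.q_δ)
      · exact Or.inr r
    · rintro (rfl | hx)
      · exact ⟨δ, hΩ ▸ ⟨C.δ_mem, C.as.image ▸ IsConj.refl d⟩, C.q_δ⟩
      · obtain ⟨s, hs, hc, hq⟩ := C.dbl.exists_lift C.as C.wc hx
        exact ⟨s, hΩ ▸ ⟨hs, hc⟩, hq⟩
  have hnot : (1 : X) ∉ {x | C.dbl.ctx.IsPt x} := fun h1 => by
    have h2 := C.set.cls.ts.1 d' mem_conjugatesOf_self
    have h3 : d' = 1 := isConj_one_left.1 h1.2
    rw [h3, orderOf_one] at h2
    omega
  have hcard' : (q '' Ω).ncard = Ω.ncard := by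
    rw [himg, Set.ncard_insert_of_notMem hnot (Set.toFinite _), hcard,
      show {x : X | C.dbl.ctx.IsPt x}.ncard = 22 from conj_count C.dbl.ctx.M C.dbl.ctx.as C.dbl.ctx.wc]
  exact Set.injOn_of_ncard_image_eq hcard' (Set.toFinite _) (hΩ ▸ ⟨hy, hyc⟩) (hΩ ▸ ⟨hz, hzc⟩) he

/-- A lift that is a conjugate is moved onto a point. -/
theorem Cover.cS_move (C : Cover e hF h q δ d' τ c E j d) {s : Cg} (hs : s ∈ cS j d) :
    ∃ a, a * s * a⁻¹ ∈ C.dbl.Ah ∧ C.dbl.ctx.IsPt (q (a * s * a⁻¹)) := by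
  obtain ⟨x0, hx0⟩ := C.dbl.ctx.conj_into (t := q s) (by rw [← map_mul, C.cS_sq hs, map_one])
  obtain ⟨a, rfl⟩ := C.dbl.surj x0
  have hmem : a * s * a⁻¹ ∈ C.dbl.Ah := show q (a * s * a⁻¹) ∈ C.dbl.ctx.A0 by
    rw [map_mul, map_mul, map_inv]; exact hx0
  obtain ⟨h1, h2, -⟩ := C.conj_cS hs a
  exact ⟨a, hmem, (C.dbl.pt_or_eq C.as hmem h1).resolve_left fun r => h2 (r ▸ C.as.image)⟩

theorem Cover.cS_img (C : Cover e hF h q δ d' τ c E j d) {s : Cg} (hs : s ∈ cS j d) :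
    q s ∈ conjugatesOf d' := by
  obtain ⟨a, -, hp⟩ := C.cS_move hs
  exact hp.2.trans (isConj_iff.2 ⟨(q a)⁻¹, by rw [map_mul, map_mul, map_inv]; group⟩)

/-- One lift of each transposition. -/
theorem Cover.cS_inj (C : Cover e hF h q δ d' τ c E j d) {s t : Cg} (hs : s ∈ cS j d) (ht : t ∈ cS j d)
    (he : q s = q t) : s = t := by
  obtain ⟨a, hmem, -⟩ := C.cS_move hs
  have hq : q (a * s * a⁻¹) = q (a * t * a⁻¹) := by simp [he]
  have hmem' : a * t * a⁻¹ ∈ C.dbl.Ah := show q (a * t * a⁻¹) ∈ C.dbl.ctx.A0 from hq ▸ hmem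
  exact mul_left_cancel (mul_right_cancel (C.one_lift hmem hmem' (C.conj_cS hs a).1 (C.conj_cS ht a).1 hq))

theorem Cover.cS_surj (C : Cover e hF h q δ d' τ c E j d) {x : X} (hx : x ∈ conjugatesOf d') :
    ∃ s ∈ cS j d, q s = x := by
  obtain ⟨g, rfl⟩ := isConj_iff.1 (show IsConj d' x from hx)
  obtain ⟨y, hy, hc, hq⟩ := C.dbl.exists_lift C.as C.wc C.dbl.ctx.d_pt
  have hys : y ∈ cS j d := ⟨hc, fun e0 => by
    have h2 := C.set.cls.ts.1 d' mem_conjugatesOf_self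
    rw [← hq, C.as.inj (e0.trans C.as.image.symm), C.q_δ, orderOf_one] at h2
    omega, ((C.as.range _).1 ⟨y, rfl⟩).symm⟩
  obtain ⟨a, rfl⟩ := C.dbl.surj g
  exact ⟨a * y * a⁻¹, C.conj_cS hys a, by simp [hq]⟩

theorem Cover.cS_comm (C : Cover e hF h q δ d' τ c E j d) {s t : Cg} (hs : s ∈ cS j d) (ht : t ∈ cS j d) :
    Commute (q s) (q t) ↔ Commute s t :=
  ⟨fun hc => mul_inv_eq_iff_eq_mul.1 (C.cS_inj (C.conj_cS ht s) ht
    (by rw [map_mul, map_mul, map_inv, hc.eq, mul_inv_cancel_right])), fun hc => hc.map q⟩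

theorem Cover.cS_braid (C : Cover e hF h q δ d' τ c E j d) {s t : Cg} (hs : s ∈ cS j d) (ht : t ∈ cS j d)
    (hn : ¬ Commute s t) : s * t * s = t * s * t := by
  have hW := C.set.weak
  have h1 := C.conj_cS ht s
  have h2 := C.conj_cS hs t
  rw [inv_eq_of_mul_eq_one_right (C.cS_sq hs)] at h1
  rw [inv_eq_of_mul_eq_one_right (C.cS_sq ht)] at h2
  refine C.cS_inj h1 h2 ?_
  rw [map_mul, map_mul, map_mul, map_mul]
  exact hW.braid (C.cS_img hs) (C.cS_img ht) fun hc => hn ((C.cS_comm hs ht).1 hc)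

omit [Finite Cg] [Finite X] [Finite G] in
theorem Cover.comm_j (C : Cover e hF h q δ d' τ c E j d) {s t : Cg} : Commute (j s) (j t) ↔ Commute s t :=
  ⟨fun hc => C.as.inj (by rw [map_mul, map_mul]; exact hc.eq), fun hc => hc.map j⟩

/-- A partner set counted in the quotient. -/
theorem Cover.count_eq (C : Cover e hF h q δ d' τ c E j d) {P : Set G} {T : Set X}
    (hP : P ⊆ nb (conjugatesOf d) d) (hT : T ⊆ conjugatesOf d') (hiff : ∀ s ∈ cS j d, j s ∈ P ↔ q s ∈ T) :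
    P.ncard = T.ncard := by
  obtain ⟨S, hS⟩ : ∃ S, S = {s | s ∈ cS j d ∧ j s ∈ P} := ⟨_, rfl⟩
  have h1 : P = j '' S := by
    subst hS
    ext y
    constructor
    · intro hy
      obtain ⟨s, hs, rfl⟩ := C.mem_cS (hP hy)
      exact ⟨s, ⟨hs, hy⟩, rfl⟩
    · rintro ⟨s, ⟨-, hy⟩, rfl⟩; exact hy
  have h2 : T = q '' S := by
    subst hS
    ext x
    constructor
    · intro hx
      obtain ⟨s, hs, rfl⟩ := C.cS_surj (hT hx)
      exact ⟨s, ⟨hs, (hiff s hs).2 hx⟩, rfl⟩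
    · rintro ⟨s, ⟨hs, hy⟩, rfl⟩; exact (hiff s hs).1 hy
  rw [h1, h2, Set.ncard_image_of_injective _ C.as.inj,
    Set.ncard_image_of_injOn fun s hs t ht he => C.cS_inj (hS ▸ hs).1 (hS ▸ ht).1 he]

theorem Cover.nb_iff (C : Cover e hF h q δ d' τ c E j d) {s t : Cg} (hs : s ∈ cS j d) (ht : t ∈ cS j d) :
    j s ∈ nb (conjugatesOf d) (j t) ↔ q s ∈ nb (conjugatesOf d') (q t) :=
  ⟨fun hh => ⟨C.cS_img hs, fun e0 => hh.2.1 (congrArg j (C.cS_inj hs ht e0)),
    (C.cS_comm ht hs).2 (C.comm_j.1 hh.2.2)⟩,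
    fun hh => ⟨hs.1, fun e0 => hh.2.1 (congrArg q (C.as.inj e0)), C.comm_j.2 ((C.cS_comm ht hs).1 hh.2.2)⟩⟩

theorem params23 : Params 3510 693 180 126 := by
  refine ⟨by norm_num, by norm_num, fun N hN hle => ?_⟩
  push_cast
  nlinarith [sq_nonneg ((N : ℤ) - 273), hN, hle]

/-- The graph around the involution. -/
theorem Cover.localAt (C : Cover e hF h q δ d' τ c E j d) : LocalAt (conjugatesOf d) d 3510 693 180 126 := by
  obtain ⟨F', _, _, σ', hF', h', hP⟩ := C.set.exists_pmap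
  obtain ⟨h1, h2, h3, -⟩ := C.set.counts hP
  refine ⟨fun x hx y hy hn => ?_, ?_, fun p hp => ?_, fun p hp r hr => ?_, fun p hp r hr hn => ?_,
    fun x hx y hy => ?_⟩
  · obtain ⟨s, hs, rfl⟩ := C.mem_cS hx
    obtain ⟨t, ht, rfl⟩ := C.mem_cS hy
    rw [← map_mul, ← map_mul, C.cS_braid hs ht fun hc => hn (C.comm_j.2 hc), map_mul, map_mul]
  · rw [C.count_eq subset_rfl subset_rfl fun s hs => iff_of_true hs (C.cS_img hs), h1]
  · obtain ⟨t, ht, rfl⟩ := C.mem_cS hp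
    rw [C.count_eq Set.inter_subset_left (T := nb (conjugatesOf d') (q t)) (fun _ hx => hx.1) fun s hs =>
      ⟨fun hh => (C.nb_iff hs ht).1 hh.2, fun hh => ⟨hs, (C.nb_iff hs ht).2 hh⟩⟩, h2 _ (C.cS_img ht)]
  · obtain ⟨t, ht, rfl⟩ := C.mem_cS hp
    obtain ⟨r', hr', rfl⟩ := C.mem_cS hr.1
    rw [C.count_eq (P := nb (conjugatesOf d) d ∩ (nb (conjugatesOf d) (j t) ∩ nb (conjugatesOf d) (j r')))
      Set.inter_subset_left (T := nb (conjugatesOf d') (q t) ∩ nb (conjugatesOf d') (q r'))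
      (fun _ hx => hx.1.1) fun s hs =>
      ⟨fun hh => ⟨(C.nb_iff hs ht).1 hh.2.1, (C.nb_iff hs hr').1 hh.2.2⟩,
        fun hh => ⟨hs, (C.nb_iff hs ht).2 hh.1, (C.nb_iff hs hr').2 hh.2⟩⟩]
    exact C.set.inter_ncard hP (C.cS_img ht) ((C.nb_iff hr' ht).1 hr.2)
  · obtain ⟨t, ht, rfl⟩ := C.mem_cS hp
    obtain ⟨r', hr', rfl⟩ := C.mem_cS hr
    rw [C.count_eq (P := nb (conjugatesOf d) d ∩ (nb (conjugatesOf d) (j t) ∩ nb (conjugatesOf d) (j r')))
      Set.inter_subset_left (T := nb (conjugatesOf d') (q t) ∩ nb (conjugatesOf d') (q r'))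
      (fun _ hx => hx.1.1) fun s hs =>
      ⟨fun hh => ⟨(C.nb_iff hs ht).1 hh.2.1, (C.nb_iff hs hr').1 hh.2.2⟩,
        fun hh => ⟨hs, (C.nb_iff hs ht).2 hh.1, (C.nb_iff hs hr').2 hh.2⟩⟩]
    have hn' : ¬ Commute (q t) (q r') := fun hc => hn (C.comm_j.2 ((C.cS_comm ht hr').1 hc))
    rw [← LocalThree.both_eq_inter hn']
    exact h3 _ (C.cS_img ht) _ (C.cS_img hr') hn'
  · obtain ⟨s, hs, rfl⟩ := C.mem_cS hx
    obtain ⟨t, ht, rfl⟩ := C.mem_cS hy
    obtain ⟨g, hg⟩ := C.set.cls.trans _ (C.cS_img hs) _ (C.cS_img ht)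
    obtain ⟨a, rfl⟩ := C.dbl.surj g
    refine ⟨j a, mul_inv_eq_iff_eq_mul.2 ((C.as.range _).1 ⟨a, rfl⟩), ?_⟩
    rw [← map_inv, ← map_mul, ← map_mul,
      C.cS_inj (C.conj_cS hs a) ht (by rw [map_mul, map_mul, map_inv, hg])]

omit [Finite Cg] [Finite G] in
/-- The centre of the centraliser. -/
theorem Cover.center_eq (C : Cover e hF h q δ d' τ c E j d) {x : Cg} : (∀ y, y * x = x * y) ↔ x = 1 ∨ x = δ := by
  constructor
  · intro hx
    refine (C.dbl.ker x).1 (Subgroup.mem_bot.1 (C.set.center ▸ Subgroup.mem_center_iff.2 fun g => ?_))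
    obtain ⟨y, rfl⟩ := C.dbl.surj g
    rw [← map_mul, ← map_mul, hx y]
  · rintro (rfl | rfl) y
    · rw [one_mul, mul_one]
    · exact (C.dbl.central y).symm

/-- The members commuting with the involution generate its centraliser. -/
theorem Cover.closure_nb (C : Cover e hF h q δ d' τ c E j d) (hq : Cfsg.IsQuasisimple Cg) :
    Subgroup.closure (nb (conjugatesOf d) d) = j.range := by
  refine le_antisymm ((Subgroup.closure_le _).2 fun y hy => ?_) ?_
  · obtain ⟨s, -, rfl⟩ := C.mem_cS hy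
    exact ⟨s, rfl⟩
  obtain ⟨K, hK⟩ : ∃ K, K = Subgroup.closure (cS j d) := ⟨_, rfl⟩
  haveI : K.Normal := by
    rw [hK]
    refine ⟨fun n hn g => ?_⟩
    induction hn using Subgroup.closure_induction with
    | mem x hx => exact Subgroup.subset_closure (C.conj_cS hx g)
    | one => rw [mul_one, mul_inv_cancel]; exact one_mem _
    | mul x y _ _ ihx ihy =>
      rw [show g * (x * y) * g⁻¹ = g * x * g⁻¹ * (g * y * g⁻¹) by group]; exact mul_mem ihx ihy
    | inv x _ ihx => rw [show g * x⁻¹ * g⁻¹ = (g * x * g⁻¹)⁻¹ by group]; exact inv_mem ihx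
  obtain ⟨y, hy, hyq⟩ := C.cS_surj (mem_conjugatesOf_self (a := d'))
  rcases CfsgLib.Components.quasisimple_normal_eq_top_or_le_center hq K with r | r
  · rintro _ ⟨s, rfl⟩
    have hs : s ∈ K := r ▸ Subgroup.mem_top s
    rw [hK] at hs
    have h1 := Subgroup.mem_map_of_mem j hs
    rw [MonoidHom.map_closure] at h1
    exact Subgroup.closure_mono (Set.image_subset_iff.2 fun x hx => hx) h1
  · exfalso
    have h1 : y ∈ K := hK ▸ Subgroup.subset_closure hy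
    have h2 := C.center_eq.1 (Subgroup.mem_center_iff.1 (r h1))
    have h3 := C.set.cls.ts.1 d' mem_conjugatesOf_self
    rw [← hyq, (C.dbl.ker y).2 h2, orderOf_one] at h3
    omega

end CfsgLib.KnownB.TypeCentral
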