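import Cfsg.Agent.Lib.KnownB.TypeCentral.Frame22
import Cfsg.Agent.Lib.KnownB.TypeCentral.Gen
import Cfsg.Agent.Lib.KnownB.TypeM22Unique.Main
import Cfsg.Agent.Lib.Spor.FischerTypes.M22

/-!
A group with an involution whose centraliser is a quasisimple double cover of PSU(6,2), the involution not
weakly closed: its class is a class of three-transpositions and the group is Fi22.
-/

set_option autoImplicit false
set_option maxRecDepth 20000

noncomputable section

namespace CfsgLib.KnownB.TypeCentral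

open CfsgLib.Classical.Unitary CfsgLib.Spor CfsgLib.KnownB.U62Thompson CfsgLib.KnownB.Fi22Double CfsgLib.ThreeTransp
  CfsgLib.KnownB.TypeM22

universe u

variable {G : Type u} [Group G] [Finite G]

/-- The setting of type M(22). -/
theorem setting22 (d : G) (hd : orderOf d = 2)
    (hq : Cfsg.IsQuasisimple ↥(Subgroup.centralizer ({d} : Set G)))
    [hzn : ((Subgroup.zpowers d).subgroupOf (Subgroup.centralizer ({d} : Set G))).Normal]
    (K : Type) [Field K] [Fintype K] (hK : Fintype.card K = 4)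
    (eP : ↥(Subgroup.centralizer ({d} : Set G)) ⧸ (Subgroup.zpowers d).subgroupOf (Subgroup.centralizer ({d} : Set G))
      ≃* Cfsg.PSU 6 K 2)
    (hnwc : ∃ g : G, g * d * g⁻¹ ∈ Subgroup.centralizer ({d} : Set G) ∧ g * d * g⁻¹ ≠ d) :
    Cfsg.IsThreeTranspositionClass (conjugatesOf d) ∧ TypeM22.Setting (conjugatesOf d) := by
  have hF : Nat.card K = 2 ^ 2 := by rw [Nat.card_eq_fintype_card, hK]; norm_num
  obtain ⟨σ, hσ⟩ := exists_uFrob hF
  obtain ⟨eK, -⟩ : ∃ _ : QField →+* K, True :=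
    ⟨(FiniteField.ringEquivOfCardEq (K := QField) (K' := K) (by rw [hK]; rfl)).toRingHom, trivial⟩
  obtain ⟨H₀, _, _, ⟨η⟩⟩ : ∃ (H₀ : Type) (_ : Group H₀) (_ : Finite H₀),
      Nonempty (H₀ ≃* ↥(Subgroup.centralizer ({d} : Set G))) :=
    ⟨Fin (Nat.card ↥(Subgroup.centralizer ({d} : Set G))), (Finite.equivFin _).symm.group, inferInstance,
      ⟨(Finite.equivFin ↥(Subgroup.centralizer ({d} : Set G))).symm.mulEquiv⟩⟩
  obtain ⟨δ, hδ⟩ : ∃ δ : ↥(Subgroup.centralizer ({d} : Set G)), δ = ⟨d, Subgroup.mem_centralizer_singleton_iff.2 rfl⟩ :=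
    ⟨_, rfl⟩
  have hord : orderOf δ = 2 := by rw [← Subgroup.orderOf_coe, hδ]; exact hd
  have hcen : ∀ x, δ * x = x * δ := fun x => Subtype.ext (by
    rw [hδ, Subgroup.coe_mul, Subgroup.coe_mul]
    exact (Subgroup.mem_centralizer_singleton_iff.1 x.2).symm)
  obtain ⟨τ, hτd⟩ : ∃ τ : ↥(Subgroup.centralizer ({d} : Set G)) →* Cfsg.PSU 6 K 2,
      τ = eP.toMonoidHom.comp (QuotientGroup.mk' _) := ⟨_, rfl⟩
  have hker : ∀ x, τ x = 1 ↔ x = 1 ∨ x = δ := fun x => by
    rw [hτd, MonoidHom.comp_apply, MulEquiv.coe_toMonoidHom, map_eq_one_iff eP eP.injective, QuotientGroup.mk'_apply,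
      QuotientGroup.eq_one_iff, Subgroup.mem_subgroupOf, Subgroup.mem_zpowers_iff]
    constructor
    · rintro ⟨k, hk⟩
      rcases Int.emod_two_eq k with r | r
      · left
        refine Subtype.ext ?_
        rw [← hk, ← zpow_mod_orderOf, hd]
        simp [r]
      · right
        refine Subtype.ext ?_
        rw [← hk, ← zpow_mod_orderOf, hd, hδ]
        simp [r]
    · rintro (rfl | rfl)
      · exact ⟨0, by simp⟩
      · exact ⟨1, by simp [hδ]⟩
  have hperf : commutator H₀ = ⊤ := by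
    have h0 : commutator ↥(Subgroup.centralizer ({d} : Set G)) = ⊤ := (Group.isPerfect_def.1 hq.1 :)
    have h1 := congrArg (Subgroup.map η.symm.toMonoidHom) h0
    rwa [commutator_def, Subgroup.map_commutator, Subgroup.map_top_of_surjective _ η.symm.surjective,
      ← commutator_def] at h1
  have hτs : Function.Surjective τ := by
    rw [hτd]; exact eP.surjective.comp (QuotientGroup.mk'_surjective _)
  obtain ⟨c, E₀, M₀⟩ := exists_mdl eK hF hσ hperf (τ.comp η.toMonoidHom) (hτs.comp η.surjective) (η.symm δ)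
    (by rw [MulEquiv.orderOf_eq]; exact hord)
    (fun x => η.injective (by simpa using hcen (η x)))
    (fun x => by rw [MonoidHom.comp_apply, hker]; simp [MulEquiv.eq_symm_apply])
  obtain ⟨g, hg1, hg2⟩ := hnwc
  have C : Ctx eK hF hσ τ δ c (fun m => η (E₀ m)) (Subgroup.centralizer ({d} : Set G)).subtype d :=
    ⟨M₀.transfer η, ⟨Subgroup.subtype_injective _,
      fun g => by rw [Subgroup.range_subtype, Subgroup.mem_centralizer_singleton_iff], by rw [hδ]; rfl⟩,
      g, by rw [Subgroup.range_subtype]; exact hg1, hg2⟩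
  have hd2 : d * d = 1 := by rw [← pow_two, ← hd]; exact pow_orderOf_eq_one d
  have hd1 : d ≠ 1 := fun e => by rw [e, orderOf_one] at hd; omega
  have Γ := graph_of_local hd2 hd1 (Ctx.localAt C hq) params22
  have Fr := Ctx.frame C Γ
  have Kc : Cent (conjugatesOf d) d := by
    refine ⟨hq, fun x hx hy => ?_, by rw [Ctx.closure_nb C hq, Subgroup.range_subtype]⟩
    obtain ⟨s, rfl⟩ : ∃ s : ↥(Subgroup.centralizer ({d} : Set G)), s.1 = x :=
      ⟨⟨x, Subgroup.mem_centralizer_singleton_iff.2 hx⟩, rfl⟩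
    refine ((Ctx.center_eq C).1 fun y => Subtype.ext (hy y.1 (Subgroup.mem_centralizer_singleton_iff.1 y.2)).eq).imp
      (fun r => by rw [r]; rfl) fun r => by rw [r, hδ]
  obtain ⟨hC, hp⟩ := Fr.prim Γ Kc
  refine ⟨⟨hC.ts, ⟨d, mem_conjugatesOf_self, rfl⟩, hC.gen⟩, hC, hp, Fr.center Γ Kc, d, mem_conjugatesOf_self, ?_⟩
  obtain ⟨b, hb, hn⟩ := Γ.exists_ncomm Fr.base
  obtain ⟨f, P, -⟩ := Ctx.exists_pmap C hq
  refine ⟨b, hb, hn, ⟨K, inferInstance, inferInstance, hK, ?_⟩, trivial⟩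
  have hkk : f.ker = Subgroup.center _ := Subgroup.ext fun x => P.ker x
  exact ⟨(QuotientGroup.quotientMulEquivOfEq hkk.symm).trans (QuotientGroup.quotientKerEquivOfSurjective f P.surj)⟩

/-- The group is Fi22, the class going to the transpositions. -/
theorem main22 (d : G) (hd : orderOf d = 2)
    (hq : Cfsg.IsQuasisimple ↥(Subgroup.centralizer ({d} : Set G)))
    [hzn : ((Subgroup.zpowers d).subgroupOf (Subgroup.centralizer ({d} : Set G))).Normal]
    (K : Type) [Field K] [Fintype K] (hK : Fintype.card K = 4)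
    (eP : ↥(Subgroup.centralizer ({d} : Set G)) ⧸ (Subgroup.zpowers d).subgroupOf (Subgroup.centralizer ({d} : Set G))
      ≃* Cfsg.PSU 6 K 2)
    (hnwc : ∃ g : G, g * d * g⁻¹ ∈ Subgroup.centralizer ({d} : Set G) ∧ g * d * g⁻¹ ≠ d) :
    Cfsg.IsThreeTranspositionClass (conjugatesOf d) ∧ Cfsg.IsOfTypeM22 G (conjugatesOf d) ∧
      Cfsg.Spor.IsoFi22 G := by
  obtain ⟨h3, S⟩ := setting22 d hd hq K hK eP hnwc
  obtain ⟨i, hi⟩ := TypeM22.Unique.exists_iso_of_setting S
  refine ⟨h3, ?_, ⟨i⟩⟩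
  have h1 := CfsgLib.Spor.FischerTypes.typeM22_congr i.symm _ CfsgLib.Spor.FischerTypes.typeM22.1
  rwa [← hi, Set.image_image, Set.image_congr fun x _ => i.symm_apply_apply x, Set.image_id'] at h1

end CfsgLib.KnownB.TypeCentral
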