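import Cfsg.Agent.Lib.KnownB.TypeCentral.Frame23
import Cfsg.Agent.Lib.KnownB.TypeCentral.Main22
import Cfsg.Agent.Lib.KnownB.TypeM23Unique.Main
import Cfsg.Agent.Lib.Spor.FischerTypes.M23

/-!
A group with an involution whose centraliser is a quasisimple double cover of a group of type M(22), the
involution not weakly closed: its class is a class of three-transpositions and the group is Fi23.
-/

set_option autoImplicit false
set_option maxRecDepth 20000

noncomputable section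

namespace CfsgLib.KnownB.TypeCentral

open CfsgLib.Classical.Unitary CfsgLib.Spor CfsgLib.KnownB.U62Thompson CfsgLib.KnownB.Fi22Double CfsgLib.ThreeTransp
  CfsgLib.KnownB.TypeM22

universe u

section

variable {F : Type} [Field F] {e : QField →+* F} {σ : F →+* F} [Finite F] {hF : Nat.card F = 2 ^ 2}
  {h : UFrob σ 2} {Cg : Type u} [Group Cg] [Finite Cg] {X : Type u} [Group X] [Finite X]
  {q : Cg →* X} {δ : Cg} {d' : X} {τ : ↥(Subgroup.centralizer ({d'} : Set X)) →* Cfsg.PSU 6 F 2} {c : ℕ}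
  {E : ℕ → ↥((Subgroup.centralizer ({d'} : Set X)).comap q)}
  {G : Type u} [Group G] [Finite G] {j : Cg →* G} {d : G}

omit [Finite F] in
/-- The partners modulo the centre are the quotient. -/
theorem typ_base [Finite F] (C : Cover e hF h q δ d' τ c E j d) (hq : Cfsg.IsQuasisimple Cg)
    (ht : Cfsg.IsOfTypeM22 X (conjugatesOf d')) :
    Cfsg.IsOfTypeM22 (TypeM23.Qd (conjugatesOf d) d) (TypeM23.Dq (conjugatesOf d) d) := by
  obtain ⟨η, hη⟩ : ∃ η : ↥(Subgroup.closure (nb (conjugatesOf d) d)) ≃* Cg, ∀ x, j (η x) = x :=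
    ⟨(MulEquiv.subgroupCongr (C.closure_nb hq)).trans (MonoidHom.ofInjective C.as.inj).symm, fun x =>
      congrArg Subtype.val ((MonoidHom.ofInjective C.as.inj).apply_symm_apply _)⟩
  obtain ⟨f, hf⟩ : ∃ f : ↥(Subgroup.closure (nb (conjugatesOf d) d)) →* X, f = q.comp η.toMonoidHom := ⟨_, rfl⟩
  have hfs : Function.Surjective f := hf ▸ C.dbl.surj.comp η.surjective
  have hfk : f.ker = Subgroup.center ↥(Subgroup.closure (nb (conjugatesOf d) d)) := by
    ext x
    rw [MonoidHom.mem_ker, hf, MonoidHom.comp_apply, MulEquiv.coe_toMonoidHom, C.dbl.ker, ← C.center_eq,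
      Subgroup.mem_center_iff]
    refine ⟨fun hx y => η.injective (by rw [map_mul, map_mul]; exact hx (η y)), fun hx y => ?_⟩
    obtain ⟨y, rfl⟩ := η.surjective y
    rw [← map_mul, ← map_mul, hx y]
  obtain ⟨i, hi⟩ : ∃ i : TypeM23.Qd (conjugatesOf d) d ≃* X, ∀ x, i (QuotientGroup.mk x) = f x :=
    ⟨(QuotientGroup.quotientMulEquivOfEq hfk.symm).trans (QuotientGroup.quotientKerEquivOfSurjective f hfs),
      fun _ => rfl⟩
  have himg : i '' TypeM23.Dq (conjugatesOf d) d = conjugatesOf d' := by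
    ext x
    constructor
    · rintro ⟨_, ⟨y, hy, rfl⟩, rfl⟩
      rw [hi, hf]
      exact C.cS_img (show j (η y) ∈ nb (conjugatesOf d) d by rw [hη]; exact hy)
    · intro hx
      obtain ⟨s, hs, rfl⟩ := C.cS_surj hx
      have hyn : ((η.symm s : ↥(Subgroup.closure (nb (conjugatesOf d) d))) : G) ∈ nb (conjugatesOf d) d := by
        rw [← hη (η.symm s), MulEquiv.apply_symm_apply]; exact hs
      exact ⟨_, ⟨η.symm s, hyn, rfl⟩, by rw [hi, hf]; simp⟩
  have h1 := CfsgLib.Spor.FischerTypes.typeM22_congr i.symm _ ht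
  rwa [← himg, Set.image_image, Set.image_congr fun x _ => i.symm_apply_apply x, Set.image_id'] at h1

/-- The setting of type M(23). -/
theorem setting23 (C : Cover e hF h q δ d' τ c E j d) (hq : Cfsg.IsQuasisimple ↥(Subgroup.centralizer ({d} : Set G)))
    (hqC : Cfsg.IsQuasisimple Cg) (ht : Cfsg.IsOfTypeM22 X (conjugatesOf d')) :
    Cfsg.IsThreeTranspositionClass (conjugatesOf d) ∧ TypeM23.Setting23 (conjugatesOf d) := by
  have Γ := graph_of_local C.d_sq C.d_ne_one C.localAt params23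
  have Fr := C.frame Γ
  have hrange : j.range = Subgroup.centralizer ({d} : Set G) := by
    ext x
    rw [C.as.range, Subgroup.mem_centralizer_singleton_iff]
  have Kc : Cent (conjugatesOf d) d := by
    refine ⟨hq, fun x hx hy => ?_, by rw [C.closure_nb hqC, hrange]⟩
    obtain ⟨s, rfl⟩ := (C.as.range x).2 hx.eq
    refine ((C.center_eq (x := s)).1 fun y => C.as.inj (by
      rw [map_mul, map_mul]; exact (hy (j y) ((C.as.range _).1 ⟨y, rfl⟩)).eq)).imp
      (fun r => by rw [r, map_one]) fun r => by rw [r, C.as.image]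
  obtain ⟨hC, hp⟩ := Fr.prim Γ Kc
  refine ⟨⟨hC.ts, ⟨d, mem_conjugatesOf_self, rfl⟩, hC.gen⟩, hC, hp, Fr.center Γ Kc, fun {e₀} he => ?_,
    fun {e₀ x y} he hx hy hn => ?_⟩
  · obtain ⟨g, hg⟩ := Γ.trans d Fr.base e₀ he
    have hS : MulAut.conj g '' nb (conjugatesOf d) d = nb (conjugatesOf d) e₀ := by
      rw [← hg, nb_image Γ.conj]
      rfl
    have h1 := CfsgLib.Spor.FischerTypes.typeM22_congr
      (CfsgLib.Spor.FischerTypes.quotCongr (MulAut.conj g) hS) _ (typ_base C hqC ht)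
    exact (congrArg (Cfsg.IsOfTypeM22 _) (CfsgLib.Spor.FischerTypes.image_quotCongr (MulAut.conj g) hS)).mp h1
  · obtain ⟨b, hb1, hb2, hb3⟩ := Set.nonempty_of_ncard_ne_zero
      (by rw [(Γ.loc e₀ he).c4 x hx y hy hn]; norm_num :
        (nb (conjugatesOf d) e₀ ∩ (nb (conjugatesOf d) x ∩ nb (conjugatesOf d) y)).ncard ≠ 0)
    exact ⟨b, hb1, hb2.2.2, hb3.2.2⟩

end

/-- The group is Fi23, the class going to the transpositions. -/
theorem main23 {G : Type u} [Group G] [Finite G] (d : G) (hd : orderOf d = 2)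
    (hq : Cfsg.IsQuasisimple ↥(Subgroup.centralizer ({d} : Set G)))
    [hzn : ((Subgroup.zpowers d).subgroupOf (Subgroup.centralizer ({d} : Set G))).Normal]
    (hinvol : ∃ d' : ↥(Subgroup.centralizer ({d} : Set G)) ⧸ (Subgroup.zpowers d).subgroupOf (Subgroup.centralizer ({d} : Set G)), orderOf d' = 2 ∧ Cfsg.IsQuasisimple ↥(Subgroup.centralizer ({d'} : Set _)) ∧ (∃ (K : Type) (_ : Field K) (_ : Fintype K), Fintype.card K = 4 ∧ ∃ _ : ((Subgroup.zpowers d').subgroupOf (Subgroup.centralizer ({d'} : Set _))).Normal, Nonempty (↥(Subgroup.centralizer ({d'} : Set _)) ⧸ (Subgroup.zpowers d').subgroupOf (Subgroup.centralizer ({d'} : Set _)) ≃* Cfsg.PSU 6 K 2)) ∧ ∃ g, g * d' * g⁻¹ ∈ Subgroup.centralizer ({d'} : Set _) ∧ g * d' * g⁻¹ ≠ d')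
    (hnwc : ∃ g : G, g * d * g⁻¹ ∈ Subgroup.centralizer ({d} : Set G) ∧ g * d * g⁻¹ ≠ d) :
    Cfsg.IsThreeTranspositionClass (conjugatesOf d) ∧ Cfsg.IsOfTypeM23 G (conjugatesOf d) ∧
      Cfsg.Spor.IsoFi23 G := by
  obtain ⟨d₀, hd₀, hq₀, ⟨K, _, _, hK, hn₀, ⟨eP⟩⟩, hwc₀⟩ := id hinvol
  haveI := hn₀
  obtain ⟨-, ht₀, -⟩ := main22 d₀ hd₀ hq₀ K hK eP hwc₀
  obtain ⟨-, S₀⟩ := setting22 d₀ hd₀ hq₀ K hK eP hwc₀
  refine exists_data d hd hq hinvol fun F _ _ e σ hF h δ d' τ c E hA D => ?_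
  have heq : conjugatesOf d₀ = conjugatesOf d' :=
    D.ctx.eq_conjugates S₀.cls.ts S₀.cls.conj ⟨d₀, mem_conjugatesOf_self⟩
  obtain ⟨g, hg1, hg2⟩ := hnwc
  have C : Cover e hF h _ δ d' τ c E (Subgroup.centralizer ({d} : Set G)).subtype d :=
    ⟨D, hA, ⟨g, by rw [Subgroup.range_subtype]; exact hg1, hg2⟩, heq ▸ S₀⟩
  obtain ⟨h3, S⟩ := setting23 C hq hq (heq ▸ ht₀)
  obtain ⟨i, hi⟩ := TypeM23.Unique.exists_iso_of_setting S
  refine ⟨h3, ?_, ⟨i⟩⟩
  have h1 := CfsgLib.Spor.FischerTypes.typeM23_congr i.symm _ CfsgLib.Spor.FischerTypes.typeM23.1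
  rwa [show conjugatesOf CfsgLib.Spor.Fi23.z = i '' conjugatesOf d from hi.symm, Set.image_image,
    Set.image_congr fun x _ => i.symm_apply_apply x, Set.image_id'] at h1

end CfsgLib.KnownB.TypeCentral
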