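import Cfsg.Agent.Lib.KnownB.TypeCentral.Tables22
import Cfsg.Agent.Lib.KnownB.Fi22Double.Class
import Cfsg.Agent.Lib.KnownB.TypeM22.Points

/-!
The conjugates of the involution commuting with it are the transvections of its centraliser.
-/

set_option autoImplicit false
set_option maxRecDepth 20000

noncomputable section

namespace CfsgLib.KnownB.TypeCentral

open Matrix CfsgLib.Classical CfsgLib.Classical.Unitary CfsgLib.Spor CfsgLib.MultSU CfsgLib.KnownB.U62Mult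
  CfsgLib.KnownB.U62Thompson CfsgLib.KnownB.Fi22Double CfsgLib.ThreeTransp

universe w z

variable {F : Type} [Field F] {e : QField →+* F} {σ : F →+* F} [Finite F] {hF : Nat.card F = 2 ^ 2}
  {h : UFrob σ 2} {H : Type w} [Group H] [Finite H] {τ : H →* Cfsg.PSU 6 F 2} {δ : H} {c : ℕ} {E : ℕ → H}
  {X : Type z} [Group X] [Finite X] {ι : H →* X} {d : X}

theorem rel_facts {c : ℕ} (hc : c < 3) : (∀ p ∈ relT22 c, p ∈ pts c) ∧ (relT22 c).length = 7 ∧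
    canZ (zOf c) ((relT22 c).foldr Nat.xor 0) = 0 ∧ eqW (mW (yPt c)) [5] = true ∧
    ∀ q ∈ pts c, ∀ p ∈ allP c, canZ (zOf c) (q ^^^ dOf c) ≠ canZ (zOf c) p := by
  have h1 := List.all_eq_true.1 rel22_ok c (List.mem_range.2 hc)
  simp only [relCheck, Bool.and_eq_true, List.all_eq_true, List.any_eq_true, Nat.beq_eq, Bool.not_eq_true',
    ← Bool.not_eq_true] at h1
  obtain ⟨⟨⟨⟨a, b⟩, a2⟩, a3⟩, a4⟩ := h1
  refine ⟨fun p hp => ?_, b, a2, a3, a4⟩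
  obtain ⟨q, hq, e0⟩ := a p hp
  exact e0 ▸ hq

omit [Finite H] in
/-- The transvection of the second point. -/
theorem Ctx.yPt_tr (C : Ctx e hF h τ δ c E ι d) : ∃ (u : USix.V F) (hu : uh σ u u = 0), u ≠ 0 ∧
    τ (E (yPt c)) = USix.pt hF h u hu := by
  have h5 : hm 5 5 % 4 = 0 := by rw [five_ok]
  have hiso : isoW [5] = true := by decide +kernel
  refine ⟨U62Mult.vec e 5, (uh_vec_zero e h).2 h5, fun e0 => ?_, ?_⟩
  · have := (vec_inj e).1 (e0.trans (show (0 : USix.V F) = U62Mult.vec e 0 from funext fun i => by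
      rw [Pi.zero_apply, U62Mult.vec, Nat.zero_shiftRight, U62Mult.el_zero]))
    revert this
    decide
  · rw [C.M.map, gW_eq e hF h (isoW_mW _) hiso (rel_facts C.M.lt).2.2.2.1, gW_cons, gW_nil, mul_one]
    refine congrArg _ (su_ext fun x => ?_)
    rw [tv_mulVec e hF h h5, USix.tr_mulVec]

/-- The transvection of every point. -/
theorem Ctx.pt_tr (C : Ctx e hF h τ δ c E ι d) {p : ℕ} (hp : p ∈ pts c) : ∃ (u : USix.V F) (hu : uh σ u u = 0),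
    u ≠ 0 ∧ τ (E p) = USix.pt hF h u hu := by
  obtain ⟨k, -, hk⟩ := C.trans21 (yPt_spec C.M.lt).1 hp
  obtain ⟨u, hu, hu0, hτ⟩ := Ctx.yPt_tr C
  obtain ⟨g, hg⟩ := QuotientGroup.mk_surjective (τ k)
  refine ⟨g.1.1 *ᵥ u, (su_uh h g u u).trans hu, fun e0 => hu0 ?_, ?_⟩
  · have h1 := congrArg (fun v => (g⁻¹).1.1 *ᵥ v) e0
    rwa [← su_mul_mulVec, inv_mul_cancel, su_one_mulVec, mulVec_zero] at h1
  · rw [← hk, map_mul, map_mul, map_inv, hτ, ← hg, USix.pt, USix.pt, ← QuotientGroup.mk_inv, ← QuotientGroup.mk_mul,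
      ← QuotientGroup.mk_mul, USix.conj_tr hF h g hu _ rfl]

/-- the points of the centraliser, as a set -/
def cSet (ι : H →* X) (d : X) : Set H := {s | ι s ∈ nb (conjugatesOf d) d}

omit [Finite H] in
theorem Ctx.conj_cSet (C : Ctx e hF h τ δ c E ι d) {s : H} (hs : s ∈ cSet ι d) (k : H) :
    k * s * k⁻¹ ∈ cSet ι d := by
  obtain ⟨h1, h2, h3⟩ := hs
  refine ⟨?_, fun e0 => h2 ?_, ?_⟩
  · rw [map_mul, map_mul, map_inv]
    exact (show IsConj d (ι s) from h1).trans (isConj_iff.2 ⟨ι k, rfl⟩)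
  · rw [map_mul, map_mul, map_inv, mul_inv_eq_iff_eq_mul, ← (C.as.range _).1 ⟨k, rfl⟩] at e0
    exact mul_left_cancel e0
  · exact ((C.as.range _).1 ⟨k * s * k⁻¹, rfl⟩).symm

theorem Ctx.pts_cSet (C : Ctx e hF h τ δ c E ι d) {p : ℕ} (hp : p ∈ pts c) : E p ∈ cSet ι d :=
  ⟨(C.pt_iff.2 (Or.inr ⟨p, hp, rfl⟩)).2, C.pts_ne hp, ((C.as.range _).1 ⟨E p, rfl⟩).symm⟩

/-- A conjugate in the centraliser is moved to a point. -/
theorem Ctx.cSet_move (C : Ctx e hF h τ δ c E ι d) {s : H} (hs : s ∈ cSet ι d) :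
    ∃ k, ∃ q ∈ pts c, s = k * E q * k⁻¹ := by
  have hd2 : d * d = 1 := C.sq_A0 C.d_mem
  have hss : s * s = 1 := C.as.inj (by
    obtain ⟨g, hg⟩ := isConj_iff.1 (show IsConj d (ι s) from hs.1)
    rw [map_mul, map_one, ← hg, show g * d * g⁻¹ * (g * d * g⁻¹) = g * (d * d) * g⁻¹ by group, hd2]
    group)
  obtain ⟨a, ha⟩ := C.M.conj_A' (x := s) (Or.inl hss)
  have hs' := Ctx.conj_cSet C hs a
  have hpt : C.IsPt (ι (a * s * a⁻¹)) := ⟨Subgroup.mem_map_of_mem ι ha, hs'.1⟩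
  rcases C.pt_iff.1 hpt with r | ⟨q, hq, r⟩
  · exact absurd r hs'.2.1
  · exact ⟨a⁻¹, q, hq, by rw [← C.as.inj r]; group⟩

theorem Ctx.cSet_tr (C : Ctx e hF h τ δ c E ι d) {s : H} (hs : s ∈ cSet ι d) :
    ∃ (u : USix.V F) (hu : uh σ u u = 0), u ≠ 0 ∧ τ s = USix.pt hF h u hu := by
  obtain ⟨k, q, hq, rfl⟩ := Ctx.cSet_move C hs
  obtain ⟨u, hu, hu0, hτ⟩ := Ctx.pt_tr C hq
  obtain ⟨g, hg⟩ := QuotientGroup.mk_surjective (τ k)
  refine ⟨g.1.1 *ᵥ u, (su_uh h g u u).trans hu, fun e0 => hu0 ?_, ?_⟩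
  · have h1 := congrArg (fun v => (g⁻¹).1.1 *ᵥ v) e0
    rwa [← su_mul_mulVec, inv_mul_cancel, su_one_mulVec, mulVec_zero] at h1
  · rw [map_mul, map_mul, map_inv, hτ, ← hg, USix.pt, USix.pt, ← QuotientGroup.mk_inv, ← QuotientGroup.mk_mul,
      ← QuotientGroup.mk_mul, USix.conj_tr hF h g hu _ rfl]

/-- One lift of each transvection. -/
theorem Ctx.cSet_inj (C : Ctx e hF h τ δ c E ι d) {s t : H} (hs : s ∈ cSet ι d) (ht : t ∈ cSet ι d)
    (he : τ s = τ t) : s = t := by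
  rcases (C.M.ker (s⁻¹ * t)).1 (by rw [map_mul, map_inv, he, inv_mul_cancel]) with r | r
  · exact inv_mul_eq_one.1 r
  exfalso
  have htd : t = s * δ := by rw [← r, mul_inv_cancel_left]
  obtain ⟨k, q, hq, hk⟩ := Ctx.cSet_move C hs
  have h1 := Ctx.conj_cSet C ht k⁻¹
  rw [htd, hk, show k⁻¹ * (k * E q * k⁻¹ * δ) * k⁻¹⁻¹ = E q * (k⁻¹ * δ * k) by group, mul_assoc k⁻¹ δ k,
    C.M.central k, inv_mul_cancel_left, ← C.M.d_eq, C.M.mul] at h1
  have hlt : q ^^^ dOf c < 2048 := xor_lt (pts_spec C.M.lt hq).1 (zOf_pos C.M.lt).2.2.1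
  rcases C.pt_iff.1 (⟨C.E_mem hlt, h1.1⟩ : C.IsPt (ι (E (q ^^^ dOf c)))) with e0 | ⟨p, hp, e0⟩
  · exact h1.2.1 e0
  · exact (rel_facts C.M.lt).2.2.2.2 q hq p (List.mem_cons_of_mem _ hp) ((C.E_eq hlt (pts_spec C.M.lt hp).1).1 e0)

theorem tr_braid' {u v : USix.V F} (hu : uh σ u u = 0) (hv : uh σ v v = 0) (huv : uh σ u v ≠ 0) :
    USix.pt hF h u hu * USix.pt hF h v hv * USix.pt hF h u hu =
      USix.pt hF h v hv * USix.pt hF h u hu * USix.pt hF h v hv :=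
  congrArg (QuotientGroup.mk' _) (USix.tr_braid hF h hu hv huv)

/-- Commutation is seen in the quotient, and non-commuting members braid. -/
theorem Ctx.cSet_rel (C : Ctx e hF h τ δ c E ι d) {s t : H} (hs : s ∈ cSet ι d) (ht : t ∈ cSet ι d) :
    (Commute (τ s) (τ t) ↔ Commute s t) ∧ (¬ Commute s t → s * t * s = t * s * t) := by
  have hinv : ∀ {s}, s ∈ cSet ι d → s⁻¹ = s := fun {s} hs => by
    obtain ⟨g, hg⟩ := isConj_iff.1 (show IsConj d (ι s) from hs.1)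
    refine inv_eq_of_mul_eq_one_right (C.as.inj ?_)
    rw [map_mul, map_one, ← hg, show g * d * g⁻¹ * (g * d * g⁻¹) = g * (d * d) * g⁻¹ by group, C.sq_A0 C.d_mem]
    group
  have key : Commute (τ s) (τ t) → Commute s t := fun hc => by
    have h1 := Ctx.cSet_inj C (Ctx.conj_cSet C ht s) ht (by rw [map_mul, map_mul, map_inv, hc.eq, mul_inv_cancel_right])
    exact mul_inv_eq_iff_eq_mul.1 h1
  refine ⟨⟨key, fun hc => hc.map τ⟩, fun hn => ?_⟩
  obtain ⟨u, hu, hu0, hτs⟩ := Ctx.cSet_tr C hs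
  obtain ⟨v, hv, hv0, hτt⟩ := Ctx.cSet_tr C ht
  have hne : uh σ u v ≠ 0 := fun e0 => hn (key (by rw [hτs, hτt]; exact (USix.pt_commute_iff hF h hu hv).2 e0))
  have h1 := Ctx.conj_cSet C ht s
  have h2 := Ctx.conj_cSet C hs t
  rw [hinv hs] at h1
  rw [hinv ht] at h2
  exact Ctx.cSet_inj C h1 h2 (by rw [map_mul, map_mul, map_mul, map_mul, hτs, hτt]; exact tr_braid' hu hv hne)

omit [Finite H] in
theorem Ctx.mem_cSet (C : Ctx e hF h τ δ c E ι d) {y : X} (hy : y ∈ nb (conjugatesOf d) d) :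
    ∃ s, s ∈ cSet ι d ∧ ι s = y := by
  obtain ⟨s, rfl⟩ := (C.as.range y).2 hy.2.2.symm.eq
  exact ⟨s, hy, rfl⟩

/-- The centraliser permutes these conjugates transitively. -/
theorem Ctx.cSet_trans (C : Ctx e hF h τ δ c E ι d) {s t : H} (hs : s ∈ cSet ι d) (ht : t ∈ cSet ι d) :
    ∃ k, k * s * k⁻¹ = t := by
  obtain ⟨a, p, hp, rfl⟩ := Ctx.cSet_move C hs
  obtain ⟨b, q, hq, rfl⟩ := Ctx.cSet_move C ht
  obtain ⟨k, -, hk⟩ := C.trans21 hp hq
  exact ⟨b * k * a⁻¹, by rw [← hk]; group⟩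

end CfsgLib.KnownB.TypeCentral
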