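import Cfsg.Agent.Lib.KnownB.Fi22Double.Plane

/-!
Checks on the points of the plane subgroup: sums of two of them, sums of three, and one odd relation.
-/

set_option autoImplicit false
set_option maxRecDepth 100000

noncomputable section

namespace CfsgLib.KnownB.TypeCentral

open CfsgLib.KnownB.U62Mult CfsgLib.KnownB.U62Thompson CfsgLib.KnownB.Fi22Double

/-- all points of a case -/
def allP (c : ℕ) : List ℕ := dOf c :: pts c

/-- classes of sums of two points -/
def pairBits (c : ℕ) : ℕ :=
  bitsL ((allP c).flatMap fun p => ((allP c).filter fun q => !Nat.beq p q).map fun q => canZ (zOf c) (Nat.xor p q))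

/-- a sum of three points has a point off all pairs -/
def outCheck (c : ℕ) : Bool :=
  forceN (pairBits c) fun B =>
    (allP c).all fun a => (allP c).all fun b => (allP c).all fun d =>
      Nat.beq a b || Nat.beq a d || Nat.beq b d ||
        (allP c).any fun y => !B.testBit (canZ (zOf c) (Nat.xor (Nat.xor (Nat.xor a b) d) y))

/-- an odd relation between points -/
def relT22 (c : ℕ) : List ℕ :=
  [[1374, 1438, 1445, 1478, 246, 286, 331], [878, 892, 948, 1004, 331, 620, 877],
    [892, 922, 948, 1004, 286, 718, 878]].getD c []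

/-- the check on the relation and on the second point -/
def relCheck (c : ℕ) : Bool :=
  (relT22 c).all (fun p => (pts c).any (Nat.beq p)) && Nat.beq (relT22 c).length 7 &&
    Nat.beq (canZ (zOf c) ((relT22 c).foldr Nat.xor 0)) 0 &&
    eqW (mW (yPt c)) [5] &&
    (pts c).all fun q => (allP c).all fun p => !Nat.beq (canZ (zOf c) (Nat.xor q (dOf c))) (canZ (zOf c) p)

theorem out_ok : ((List.range 3).all outCheck) = true := by decide +kernel

theorem rel22_ok : ((List.range 3).all relCheck) = true := by decide +kernel

theorem five_ok : hm 5 5 = 0 := by decide +kernel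

theorem mem_pairBits {c p q : ℕ} (hp : p ∈ allP c) (hq : q ∈ allP c) (hpq : p ≠ q) :
    (pairBits c).testBit (canZ (zOf c) (p ^^^ q)) = true := by
  refine (bitsL_testBit _ _).2 (List.mem_flatMap.2 ⟨p, hp, List.mem_map.2 ⟨q, List.mem_filter.2 ⟨hq, ?_⟩, rfl⟩⟩)
  rw [Bool.not_eq_true', ← Bool.not_eq_true, Nat.beq_eq]
  exact hpq

end CfsgLib.KnownB.TypeCentral
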